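import Mathlib
import Cfsg.Agent.Lib.Nilpotent.Elements
import Cfsg.Agent.Lib.PGroup.FrattiniBasis

/-!
# Structure of a minimal non-`p`-nilpotent group

`X = P ⋊ ⟨g⟩`, proper subgroups nilpotent.  `C = P ∩ C(g)` is central in `X`; it contains all
commutators and `p`-th powers of `P`, and `g`-invariant proper subgroups of `P` lie in `C`.
-/

set_option autoImplicit false

namespace Cfsg.Agent.Lib.Schmidt.Struct

open Subgroup Cfsg.Agent.Lib.Nilpotent.Elements
open scoped commutatorElement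

universe u

variable {X : Type u} [Group X]

/-- The hypotheses on a minimal non-`p`-nilpotent group. -/
structure Ctx (p q r : ℕ) (P : Subgroup X) (g : X) : Prop where
  normal : P.Normal
  pgroup : IsPGroup p P
  order : orderOf g = q ^ r
  sup : P ⊔ zpowers g = ⊤
  nil : ∀ H : Subgroup X, H ≠ ⊤ → Group.IsNilpotent H
  nonnil : ¬ Group.IsNilpotent X
  ne : p ≠ q
  rpos : 1 ≤ r

/-- The central part. -/
def cent (P : Subgroup X) (g : X) : Subgroup X := P ⊓ centralizer {g}

theorem mem_cent {P : Subgroup X} {g x : X} : x ∈ cent P g ↔ x ∈ P ∧ g * x = x * g := by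
  unfold cent
  rw [Subgroup.mem_inf, Subgroup.mem_centralizer_singleton_iff]
  exact and_congr_right fun _ => eq_comm

variable [Finite X]

theorem exists_mulPow (R : Subgroup X) (y : X) (hinv : ∀ x ∈ R, y * x * y⁻¹ ∈ R) :
    ∃ H : Subgroup X, ∀ x, x ∈ H ↔ ∃ r ∈ R, ∃ k : ℕ, x = r * y ^ k := by
  have hpow : ∀ (k : ℕ), ∀ x ∈ R, y ^ k * x * (y ^ k)⁻¹ ∈ R := by
    intro k
    induction k with
    | zero => intro x hx; simpa using hx
    | succ k ih =>
      intro x hx
      have h1 := hinv _ (ih x hx)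
      have h2 : y * (y ^ k * x * (y ^ k)⁻¹) * y⁻¹ = y ^ (k + 1) * x * (y ^ (k + 1))⁻¹ := by
        rw [pow_succ']
        group
      rwa [h2] at h1
  let M : Submonoid X :=
    { carrier := {x | ∃ r ∈ R, ∃ k : ℕ, x = r * y ^ k}
      one_mem' := ⟨1, R.one_mem, 0, by simp⟩
      mul_mem' := by
        rintro _ _ ⟨r, hr, k, rfl⟩ ⟨r', hr', l, rfl⟩
        refine ⟨r * (y ^ k * r' * (y ^ k)⁻¹), R.mul_mem hr (hpow k r' hr'), k + l, ?_⟩
        rw [pow_add]
        group }
  refine ⟨{ M with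
    inv_mem' := by
      intro x hx
      have h1 : x⁻¹ = x ^ (orderOf x - 1) := by
        rw [inv_eq_iff_mul_eq_one, ← pow_succ', Nat.sub_add_cancel (orderOf_pos x),
          pow_orderOf_eq_one]
      rw [h1]
      exact M.pow_mem hx _ }, ?_⟩
  intro x
  exact Iff.rfl

variable {p q r : ℕ} [hp : Fact p.Prime] [hq : Fact q.Prime] {P : Subgroup X} {g : X}

namespace Ctx

variable (hc : Ctx p q r P g)

include hc

theorem coprime_pq : Nat.Coprime p q := (Nat.coprime_primes hp.out hq.out).mpr hc.ne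

/-- Elements of `P` with order dividing `q ^ r` are trivial. -/
theorem eq_one_of_mem {y : X} (hy : y ∈ P) (h : y ^ q ^ r = 1) : y = 1 := by
  obtain ⟨m, hm⟩ := IsPGroup.iff_orderOf.mp hc.pgroup ⟨y, hy⟩
  rw [Subgroup.orderOf_mk] at hm
  have h1 : orderOf y ∣ q ^ r := orderOf_dvd_of_pow_eq_one h
  have h2 : Nat.Coprime (orderOf y) (q ^ r) := by
    rw [hm]
    exact Nat.Coprime.pow _ _ hc.coprime_pq
  have h3 : orderOf y = 1 := Nat.Coprime.eq_one_of_dvd h2 h1
  exact orderOf_eq_one_iff.mp h3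

theorem pow_order_pow (k : ℕ) : (g ^ k) ^ q ^ r = 1 := by
  rw [← pow_mul, mul_comm, pow_mul, ← hc.order, pow_orderOf_eq_one, one_pow]

theorem zpow_order (k : ℤ) : (g ^ k) ^ q ^ r = 1 := by
  rw [← zpow_natCast, ← zpow_mul, mul_comm, zpow_mul, zpow_natCast, ← hc.order, pow_orderOf_eq_one,
    one_zpow]

theorem pow_mem_eq_one {k : ℕ} (h : g ^ k ∈ P) : g ^ k = 1 :=
  hc.eq_one_of_mem h (hc.pow_order_pow k)

/-- Decomposition of elements. -/
theorem decomp (x : X) : ∃ u ∈ P, ∃ k : ℕ, x = u * g ^ k := by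
  haveI := hc.normal
  have h1 : x ∈ P ⊔ zpowers g := by rw [hc.sup]; trivial
  rw [← SetLike.mem_coe, normal_mul] at h1
  obtain ⟨u, hu, y, hy, rfl⟩ := Set.mem_mul.mp h1
  have hy' : y ∈ Submonoid.powers g := (mem_powers_iff_mem_zpowers).mpr hy
  obtain ⟨k, rfl⟩ := hy'
  exact ⟨u, hu, k, rfl⟩

/-- Commuting of coprime elements in a proper subgroup. -/
theorem commute_of_mem {H : Subgroup X} (hH : H ≠ ⊤) {u y : X} (hu : u ∈ P) (huH : u ∈ H)
    (hyH : y ∈ H) (hy : y ^ q ^ r = 1) : Commute u y := by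
  haveI := hc.nil H hH
  obtain ⟨m, hm⟩ := IsPGroup.iff_orderOf.mp hc.pgroup ⟨u, hu⟩
  rw [Subgroup.orderOf_mk] at hm
  have h1 : orderOf y ∣ q ^ r := orderOf_dvd_of_pow_eq_one hy
  have h2 : Nat.Coprime (orderOf u) (q ^ r) := by
    rw [hm]
    exact Nat.Coprime.pow _ _ hc.coprime_pq
  have h3 : Nat.Coprime (orderOf (⟨u, huH⟩ : H)) (orderOf (⟨y, hyH⟩ : H)) := by
    rw [Subgroup.orderOf_mk, Subgroup.orderOf_mk]
    exact Nat.Coprime.coprime_dvd_right h1 h2
  have h4 := commute_of_coprime_orderOf h3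
  have h5 := congrArg Subtype.val h4.eq
  exact h5

/-- `g`-invariant proper subgroups of `P` are centralized by `g`. -/
theorem conj_eq_of_invariant (R : Subgroup X) (hRP : R ≤ P) (hinv : ∀ x ∈ R, g * x * g⁻¹ ∈ R)
    (hne : R ≠ P) {x : X} (hx : x ∈ R) : g * x * g⁻¹ = x := by
  obtain ⟨H, hH⟩ := exists_mulPow R g hinv
  have hRH : x ∈ H := (hH x).mpr ⟨x, hx, 0, by simp⟩
  have hgH : g ∈ H := (hH g).mpr ⟨1, R.one_mem, 1, by simp⟩
  have hHne : H ≠ ⊤ := by
    intro htop
    have hlt : R < P := lt_of_le_of_ne hRP hne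
    obtain ⟨u, huP, huR⟩ := SetLike.exists_of_lt hlt
    have hu : u ∈ H := by rw [htop]; trivial
    obtain ⟨s, hs, k, rfl⟩ := (hH u).mp hu
    have h1 : g ^ k ∈ P := by
      have := P.mul_mem (P.inv_mem (hRP hs)) huP
      rwa [inv_mul_cancel_left] at this
    rw [hc.pow_mem_eq_one h1, mul_one] at huR
    exact huR hs
  have hg1 : g ^ q ^ r = 1 := by
    rw [← hc.order]
    exact pow_orderOf_eq_one g
  have h2 := hc.commute_of_mem hHne (hRP hx) hRH hgH hg1
  rw [← h2.eq]
  group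

/-- `g ^ q` centralizes `P`. -/
theorem gq_comm {u : X} (huP : u ∈ P) :
    g ^ q * u * (g ^ q)⁻¹ = u := by
  haveI := hc.normal
  have hinv : ∀ x ∈ P, g ^ q * x * (g ^ q)⁻¹ ∈ P := fun x hx => hc.normal.conj_mem x hx _
  obtain ⟨H, hH⟩ := exists_mulPow P (g ^ q) hinv
  have hRH : u ∈ H := (hH u).mpr ⟨u, huP, 0, by simp⟩
  have hgH : g ^ q ∈ H := (hH _).mpr ⟨1, P.one_mem, 1, by simp⟩
  have hHne : H ≠ ⊤ := by
    intro htop
    have hg : g ∈ H := by rw [htop]; trivial
    obtain ⟨s, hs, k, hk⟩ := (hH g).mp hg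
    have e1 : s = g ^ ((1 : ℤ) - q * k) := by
      have e2 : s = g * ((g ^ q) ^ k)⁻¹ := eq_mul_inv_of_mul_eq hk.symm
      rw [zpow_sub, zpow_one, zpow_mul, zpow_natCast, zpow_natCast]
      exact e2
    have e3 : s = 1 := hc.eq_one_of_mem hs (e1 ▸ hc.zpow_order _)
    rw [e3] at e1
    have e4 : (orderOf g : ℤ) ∣ (1 - q * k) := orderOf_dvd_iff_zpow_eq_one.mpr e1.symm
    rw [hc.order] at e4
    have e5 : (q : ℤ) ∣ ((q ^ r : ℕ) : ℤ) := by
      exact_mod_cast dvd_pow_self q (by have := hc.rpos; omega)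
    have e6 : (q : ℤ) ∣ 1 := by
      have e7 := dvd_trans e5 e4
      have e8 : (q : ℤ) ∣ q * k := dvd_mul_right _ _
      have := dvd_add e7 e8
      simpa using this
    have e9 : q ∣ 1 := by exact_mod_cast e6
    exact hq.out.one_lt.ne' (Nat.dvd_one.mp e9)
  have h2 := hc.commute_of_mem hHne huP hRH hgH (hc.pow_order_pow q)
  rw [← h2.eq]
  group

theorem cent_ne : cent P g ≠ P := by
  intro h
  have hcomm : ∀ u ∈ P, g * u = u * g := fun u hu => (mem_cent.mp (h.symm ▸ hu)).2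
  have hcen : ∀ x, x * g = g * x := by
    intro x
    obtain ⟨u, hu, k, rfl⟩ := hc.decomp x
    rw [mul_assoc, ← pow_succ, pow_succ', ← mul_assoc, ← mul_assoc, hcomm u hu]
  apply hc.nonnil
  have hgc : g ∈ center X := Subgroup.mem_center_iff.mpr hcen
  have hZ : IsPGroup p (X ⧸ center X) := by
    intro z
    obtain ⟨x, rfl⟩ := QuotientGroup.mk_surjective z
    obtain ⟨u, hu, k, rfl⟩ := hc.decomp x
    obtain ⟨m, hm⟩ := hc.pgroup ⟨u, hu⟩
    refine ⟨m, ?_⟩
    have hg : ((g ^ k : X) : X ⧸ center X) = 1 :=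
      (QuotientGroup.eq_one_iff _).mpr (Subgroup.pow_mem _ hgc k)
    have hm' : u ^ p ^ m = 1 := congrArg Subtype.val hm
    rw [QuotientGroup.mk_mul, hg, mul_one, ← QuotientGroup.mk_pow, hm']
    rfl
  haveI : Group.IsNilpotent (X ⧸ center X) := hZ.isNilpotent
  exact Subgroup.isNilpotent_of_ker_le_center (QuotientGroup.mk' (center X)) (by simp)

/-- The Frattini subgroup of `P` lies in `C`. -/
theorem frattini_mem_cent (y : P) (hy : y ∈ frattini P) : (y : X) ∈ cent P g := by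
  haveI := hc.normal
  let Φ : Subgroup X := (frattini P).map P.subtype
  have hΦP : Φ ≤ P := map_subtype_le _
  have hmem : (y : X) ∈ Φ := ⟨y, hy, rfl⟩
  have hinv : ∀ x ∈ Φ, g * x * g⁻¹ ∈ Φ := by
    rintro _ ⟨z, hz, rfl⟩
    have hch := (characteristic_iff_comap_eq.mp (frattini_characteristic (G := P)))
      (MulAut.conjNormal g)
    have h1 : MulAut.conjNormal g z ∈ frattini P := by
      have h2 : z ∈ (frattini P).comap (MulAut.conjNormal g : P ≃* P).toMonoidHom := by
        rw [hch]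
        exact hz
      exact h2
    exact ⟨_, h1, MulAut.conjNormal_apply g z⟩
  have hne : Φ ≠ P := by
    intro hΦ
    have htop : ∀ z : P, z ∈ frattini P := by
      intro z
      have h1 : (z : X) ∈ Φ := hΦ.symm ▸ z.2
      obtain ⟨w, hw, hwz⟩ := h1
      have : w = z := Subtype.ext hwz
      exact this ▸ hw
    have hnt : Nontrivial P := by
      by_contra hnt
      rw [not_nontrivial_iff_subsingleton] at hnt
      apply hc.cent_ne
      apply le_antisymm inf_le_left
      intro x hx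
      have hx1 : x = 1 := by
        have := Subsingleton.elim (⟨x, hx⟩ : P) 1
        exact congrArg Subtype.val this
      rw [hx1]
      exact Subgroup.one_mem _
    rcases IsCoatomic.eq_top_or_exists_le_coatom (⊥ : Subgroup P) with h | ⟨M, hM, -⟩
    · exact bot_ne_top h
    · apply hM.1
      rw [eq_top_iff]
      intro z _
      exact frattini_le_coatom hM (htop z)
  rw [mem_cent]
  refine ⟨y.2, ?_⟩
  have h3 := hc.conj_eq_of_invariant Φ hΦP hinv hne hmem
  calc g * (y : X) = g * y * g⁻¹ * g := by group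
    _ = y * g := by rw [h3]

theorem pow_mem_cent {u : X} (hu : u ∈ P) : u ^ p ∈ cent P g := by
  have h1 := Cfsg.Agent.Lib.PGroup.FrattiniBasis.pow_mem_frattini hc.pgroup (⟨u, hu⟩ : P)
  exact hc.frattini_mem_cent _ h1

theorem comm_mem_cent {u v : X} (hu : u ∈ P) (hv : v ∈ P) : ⁅u, v⁆ ∈ cent P g := by
  have h1 : ⁅(⟨u, hu⟩ : P), (⟨v, hv⟩ : P)⁆ ∈ frattini P :=
    Cfsg.Agent.Lib.PGroup.FrattiniBasis.commutator_le_frattini hc.pgroup
      (Subgroup.commutator_mem_commutator (Subgroup.mem_top _) (Subgroup.mem_top _))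
  exact hc.frattini_mem_cent _ h1

/-- Fixed points of the action on `P / C`. -/
theorem mem_cent_of_conj {u : X} (hu : u ∈ P) (h : g * u * g⁻¹ * u⁻¹ ∈ cent P g) : u ∈ cent P g := by
  set c := g * u * g⁻¹ * u⁻¹ with hcdef
  obtain ⟨hcP, hcg⟩ := mem_cent.mp h
  have hg : ∀ m : ℕ, g * c ^ m = c ^ m * g := by
    intro m
    exact ((show Commute g c from hcg).pow_right m).eq
  have hm : ∀ m : ℕ, g ^ m * u * (g ^ m)⁻¹ = c ^ m * u := by
    intro m
    induction m with
    | zero => simp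
    | succ m ih =>
      have e1 : g ^ (m + 1) * u * (g ^ (m + 1))⁻¹ = g * (g ^ m * u * (g ^ m)⁻¹) * g⁻¹ := by
        rw [pow_succ']
        group
      rw [e1, ih, pow_succ]
      have e2 : g * (c ^ m * u) * g⁻¹ = c ^ m * (g * u * g⁻¹) := by
        rw [← mul_assoc, hg m]
        group
      rw [e2]
      have e3 : g * u * g⁻¹ = c * u := by
        rw [hcdef]
        group
      rw [e3]
      exact (mul_assoc _ _ _).symm
  have hn : g ^ q ^ r = 1 := by
    rw [← hc.order]
    exact pow_orderOf_eq_one g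
  have h1 := hm (q ^ r)
  rw [hn] at h1
  simp only [one_mul, inv_one, mul_one] at h1
  have h2 : c ^ q ^ r = 1 := by
    have := mul_eq_right.mp h1.symm
    exact this
  have h3 : c = 1 := hc.eq_one_of_mem hcP h2
  have h4 : g * u * g⁻¹ = u := by
    have : g * u * g⁻¹ = c * u := by
      rw [hcdef]
      group
    rw [this, h3, one_mul]
  rw [mem_cent]
  refine ⟨hu, ?_⟩
  calc g * u = g * u * g⁻¹ * g := by group
    _ = u * g := by rw [h4]

theorem commute_of_cent {c y : X} (hcent : c ∈ cent P g) (hy : y ∈ zpowers g) : c * y = y * c := by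
  obtain ⟨k, rfl⟩ := hy
  have h1 : Commute g c := (mem_cent.mp hcent).2
  exact ((h1.zpow_left k).eq).symm

/-- `C` commutes with `P`. -/
theorem cent_comm {c u : X} (hcent : c ∈ cent P g) (hu : u ∈ P) : c * u = u * c := by
  haveI := hc.normal
  let T : Subgroup X := ⁅zpowers g, P⁆
  have hTP : T ≤ P := Subgroup.commutator_le_right _ _
  have hinv : ∀ x ∈ T, g * x * g⁻¹ ∈ T := by
    have hle : T ≤ T.comap (MulAut.conj g).toMonoidHom := by
      rw [Subgroup.commutator_le]
      intro a ha b hb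
      change g * ⁅a, b⁆ * g⁻¹ ∈ T
      rw [conjugate_commutatorElement]
      have h1 : g * a * g⁻¹ = a := by
        obtain ⟨k, rfl⟩ := ha
        have : Commute g (g ^ k) := (Commute.refl g).zpow_right k
        rw [this.eq]
        group
      rw [h1]
      exact Subgroup.commutator_mem_commutator ha (hc.normal.conj_mem b hb g)
    intro x hx
    exact hle hx
  have hTeq : T = P := by
    by_contra hne
    apply hc.cent_ne
    apply le_antisymm inf_le_left
    intro v hv
    apply hc.mem_cent_of_conj hv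
    have h1 : ⁅g, v⁆ ∈ T := Subgroup.commutator_mem_commutator (mem_zpowers g) hv
    rw [mem_cent]
    refine ⟨hTP h1, ?_⟩
    have h2 := hc.conj_eq_of_invariant T hTP hinv hne h1
    have h3 : g * v * g⁻¹ * v⁻¹ = ⁅g, v⁆ := rfl
    rw [h3]
    calc g * ⁅g, v⁆ = g * ⁅g, v⁆ * g⁻¹ * g := by group
      _ = ⁅g, v⁆ * g := by rw [h2]
  have hZ : ⁅cent P g, zpowers g⁆ = ⊥ := by
    rw [Subgroup.commutator_eq_bot_iff_le_centralizer]
    intro x hx
    rw [Subgroup.mem_centralizer_iff]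
    intro y hy
    exact (hc.commute_of_cent hx hy).symm
  have h1 : ⁅⁅P, cent P g⁆, zpowers g⁆ = ⊥ := by
    rw [eq_bot_iff, ← hZ]
    apply Subgroup.commutator_mono _ le_rfl
    rw [Subgroup.commutator_le]
    intro a ha b hb
    exact hc.comm_mem_cent ha (mem_cent.mp hb).1
  have h2 : ⁅⁅cent P g, zpowers g⁆, P⁆ = ⊥ := by
    rw [hZ, Subgroup.commutator_bot_left]
  have h3 := Subgroup.commutator_commutator_eq_bot_of_rotate h1 h2
  change ⁅T, cent P g⁆ = ⊥ at h3
  rw [hTeq] at h3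
  have h4 : ⁅u, c⁆ = 1 := by
    have h5 := Subgroup.commutator_mem_commutator hu hcent
    rw [h3] at h5
    exact h5
  rw [commutatorElement_eq_one_iff_mul_comm] at h4
  exact h4.symm

/-- `C` is central. -/
theorem cent_central {c : X} (hcent : c ∈ cent P g) (x : X) : c * x = x * c := by
  obtain ⟨u, hu, k, rfl⟩ := hc.decomp x
  have h1 : c * g ^ k = g ^ k * c :=
    hc.commute_of_cent hcent (Subgroup.pow_mem _ (mem_zpowers g) k)
  rw [← mul_assoc, hc.cent_comm hcent hu, mul_assoc, h1, mul_assoc]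

end Ctx

end Cfsg.Agent.Lib.Schmidt.Struct
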