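import Mathlib
import Cfsg.Agent.Lib.Schmidt.Struct
import Cfsg.Agent.S0132
import Cfsg.Agent.S0536

/-!
# Minimal non-`p`-nilpotent groups of order `p ^ t * q ^ r` satisfy `Ctx`
-/

set_option autoImplicit false

namespace Cfsg.Agent.Lib.Schmidt.CtxOf

open Subgroup Cfsg.Agent.Lib.Schmidt.Struct

universe u

variable {X : Type u} [Group X] [Finite X]

/-- A Sylow subgroup for a prime not dividing the order is trivial. -/
theorem sylow_eq_bot {ℓ : ℕ} [hℓ : Fact ℓ.Prime] (T : Sylow ℓ X) (h : ¬ ℓ ∣ Nat.card X) :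
    (T : Subgroup X) = ⊥ := by
  have h1 := T.card_eq_multiplicity
  rw [Nat.factorization_eq_zero_of_not_dvd h, pow_zero] at h1
  exact Subgroup.eq_bot_of_card_eq _ h1

theorem exists_ctx {p q r t : ℕ} [hp : Fact p.Prime] [hq : Fact q.Prime] (hpq : p ≠ q) (hr : 1 ≤ r)
    (h1 : ¬ Cfsg.HasNormalPComplement p X)
    (h2 : ∀ K : Subgroup X, K ≠ ⊤ → Cfsg.HasNormalPComplement p K)
    (hcard : Nat.card X = p ^ t * q ^ r) : ∃ (P : Subgroup X) (g : X), Ctx p q r P g := by
  classical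
  obtain ⟨hnil, hnon, hS⟩ := Cfsg.Agent.S0132.result h1 h2
  obtain ⟨p', q', hp', hq', hne, P', Q', hcy, hQ', hsup⟩ := Cfsg.Agent.S0536.result ⟨hnon, hnil⟩
  haveI : Fact p'.Prime := ⟨hp'⟩
  haveI : Fact q'.Prime := ⟨hq'⟩
  have hprimes : ∀ ℓ : ℕ, ℓ.Prime → ℓ ∣ Nat.card X → ℓ = p ∨ ℓ = q := by
    intro ℓ hℓ hd
    rw [hcard] at hd
    rcases (Nat.Prime.dvd_mul hℓ).mp hd with h | h
    · exact Or.inl ((Nat.prime_dvd_prime_iff_eq hℓ hp.out).mp (hℓ.dvd_of_dvd_pow h))
    · exact Or.inr ((Nat.prime_dvd_prime_iff_eq hℓ hq.out).mp (hℓ.dvd_of_dvd_pow h))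
  have hnilp : ∀ Q₀ : Sylow q X, (Q₀ : Subgroup X).Normal → False := by
    intro Q₀ hQ₀
    apply hnon
    refine ((Group.isNilpotent_of_finite_tfae (G := X)).out 0 3).mpr ?_
    intro ℓ hℓ T
    by_cases hℓp : ℓ = p
    · subst hℓp
      exact hS T
    by_cases hℓq : ℓ = q
    · subst hℓq
      haveI := Sylow.unique_of_normal Q₀ hQ₀
      rw [Subsingleton.elim T Q₀]
      exact hQ₀
    · have hnd : ¬ ℓ ∣ Nat.card X := fun hd => (hprimes ℓ hℓ.out hd).elim hℓp hℓq
      rw [sylow_eq_bot T hnd]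
      infer_instance
  -- each of `p', q'` divides the order
  have htop : ∀ {ℓ : ℕ} [Fact ℓ.Prime] (T : Sylow ℓ X), (T : Subgroup X) = ⊤ → False := by
    intro ℓ _ T hT
    apply hnon
    have h5 := T.isPGroup'
    rw [hT] at h5
    have h4 : IsPGroup ℓ X := IsPGroup.of_equiv h5 Subgroup.topEquiv
    exact h4.isNilpotent
  have hp'd : p' ∣ Nat.card X := by
    by_contra hnd
    have h3 := sylow_eq_bot P' hnd
    rw [h3, bot_sup_eq] at hsup
    exact htop Q' hsup
  have hq'd : q' ∣ Nat.card X := by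
    by_contra hnd
    have h3 := sylow_eq_bot Q' hnd
    rw [h3, sup_bot_eq] at hsup
    exact htop P' hsup
  have hq'p : q' = p := by
    rcases hprimes q' hq' hq'd with h | h
    · exact h
    · exfalso
      subst h
      exact hnilp Q' hQ'
  subst hq'p
  have hp'q : p' = q := by
    rcases hprimes p' hp' hp'd with h | h
    · exact absurd h hne
    · exact h
  subst hp'q
  obtain ⟨g', hg'⟩ := IsCyclic.exists_generator (α := P')
  let g : X := (g' : P')
  have hfact : Nat.factorization (Nat.card X) p' = r := by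
    rw [hcard, Nat.factorization_mul (pow_ne_zero _ hp.out.ne_zero) (pow_ne_zero _ hq.out.ne_zero),
      Finsupp.add_apply, Nat.factorization_pow, Nat.factorization_pow]
    simp [Nat.Prime.factorization_self hq.out, Nat.factorization_eq_zero_of_not_dvd,
      (Nat.prime_dvd_prime_iff_eq hq.out hp.out).not.mpr (Ne.symm hpq), Finsupp.smul_apply]
  have hordg : orderOf g = p' ^ r := by
    have h3 : orderOf g = orderOf g' := Subgroup.orderOf_coe g'
    rw [h3, orderOf_eq_card_of_forall_mem_zpowers hg', P'.card_eq_multiplicity, hfact]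
  have hzp : zpowers g = (P' : Subgroup X) := by
    apply le_antisymm
    · rw [Subgroup.zpowers_le]
      exact g'.2
    · intro x hx
      obtain ⟨k, hk⟩ := hg' ⟨x, hx⟩
      have h3 := congrArg Subtype.val hk
      exact ⟨k, h3⟩
  refine ⟨Q', g, ⟨hQ', Q'.isPGroup', hordg, ?_, hnil, hnon, hpq, hr⟩⟩
  rw [hzp, sup_comm]
  exact hsup

end Cfsg.Agent.Lib.Schmidt.CtxOf
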