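import Mathlib

/-!
# The finite field generated by a `q`-th root of unity

`F` is a finite field of order `p ^ a` with `a` the order of `p` modulo `q`.
* every `q`-th root of unity `ρ ≠ 1` generates `F` over `ZMod p`,
* additive subgroups of `F` invariant under such a `ρ` are trivial,
* alternating `ζ`-invariant forms: they vanish if `a` is odd, they factor through
  `σ(x) y` modulo the fixed field of the involution if `a` is even.
-/

set_option autoImplicit false

namespace Cfsg.Agent.Lib.Schmidt.Field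

open Polynomial

universe u v

section

variable {K : Type*} [Field K] [Finite K] {q : ℕ} [hq : Fact q.Prime]

/-- A `q`-th root of unity different from `1` in a finite field forces `q ∣ |K| - 1`. -/
theorem card_cast_eq_one {ρ : K} (h1 : ρ ^ q = 1) (h2 : ρ ≠ 1) : (Nat.card K : ZMod q) = 1 := by
  have h0 : ρ ≠ 0 := by
    rintro rfl
    rw [zero_pow hq.out.ne_zero] at h1
    exact zero_ne_one h1
  let u : Kˣ := Units.mk0 ρ h0
  have hu : u ^ q = 1 := by
    apply Units.ext
    simpa [u] using h1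
  have hu1 : u ≠ 1 := by
    intro h
    apply h2
    simpa [u] using congrArg Units.val h
  have hord : orderOf u = q := orderOf_eq_prime hu hu1
  have hd : q ∣ Nat.card Kˣ := hord ▸ orderOf_dvd_natCard u
  have hc : Nat.card Kˣ = Nat.card K - 1 := by
    classical
    haveI := Fintype.ofFinite K
    rw [Nat.card_eq_fintype_card, Nat.card_eq_fintype_card, Fintype.card_units]
  rw [hc] at hd
  have h3 : 1 ≤ Nat.card K := Nat.card_pos
  have h4 := (ZMod.natCast_eq_zero_iff (Nat.card K - 1) q).mpr hd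
  rw [Nat.cast_sub h3, Nat.cast_one, sub_eq_zero] at h4
  exact h4

end

variable {p q a : ℕ} [hp : Fact p.Prime] [hq : Fact q.Prime]
variable {F : Type*} [Field F] [Finite F] [Algebra (ZMod p) F]

/-- A `q`-th root of unity generates. -/
theorem aeval_surjective (ha : a = orderOf (p : ZMod q)) (hF : Nat.card F = p ^ a) {ρ : F}
    (h1 : ρ ^ q = 1) (h2 : ρ ≠ 1) (x : F) : ∃ h : (ZMod p)[X], aeval ρ h = x := by
  let K : IntermediateField (ZMod p) F := IntermediateField.adjoin (ZMod p) {ρ}
  have hρK : ρ ∈ K := IntermediateField.mem_adjoin_simple_self (ZMod p) ρ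
  let ρ' : K := ⟨ρ, hρK⟩
  have h1' : ρ' ^ q = 1 := Subtype.ext h1
  have h2' : ρ' ≠ 1 := fun h => h2 (congrArg Subtype.val h)
  haveI : Finite K := inferInstance
  have hc := card_cast_eq_one h1' h2'
  let d := Module.finrank (ZMod p) K
  have hd : Nat.card K = p ^ d := (Module.natCard_eq_pow_finrank (K := ZMod p)).trans (by
    rw [Nat.card_zmod])
  rw [hd, Nat.cast_pow] at hc
  have hdvd : a ∣ d := by
    rw [ha]
    exact orderOf_dvd_of_pow_eq_one hc
  have hdpos : 0 < d := Module.finrank_pos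
  have hle : Nat.card K ≤ Nat.card F := Nat.card_le_card_of_injective _ Subtype.val_injective
  rw [hd, hF] at hle
  have hda : d ≤ a := (Nat.pow_le_pow_iff_right hp.out.one_lt).mp hle
  have hda' : a ≤ d := Nat.le_of_dvd hdpos hdvd
  have hK : Function.Surjective (Subtype.val : K → F) := by
    refine (Function.Injective.bijective_of_nat_card_le Subtype.val_injective ?_).2
    rw [hd, hF, le_antisymm hda hda']
  obtain ⟨y, rfl⟩ := hK x
  have hy : (y : F) ∈ K.toSubalgebra := y.2
  have hK2 : K.toSubalgebra = Algebra.adjoin (ZMod p) {ρ} :=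
    IntermediateField.adjoin_simple_toSubalgebra_of_isAlgebraic (Algebra.IsAlgebraic.isAlgebraic ρ)
  rw [hK2, Algebra.adjoin_singleton_eq_range_aeval] at hy
  obtain ⟨h, hh⟩ := hy
  exact ⟨h, hh⟩

/-- Scalars from `ZMod p` act by natural multiples. -/
theorem algebraMap_mul (c : ZMod p) (x : F) : algebraMap (ZMod p) F c * x = c.val • x := by
  have h : algebraMap (ZMod p) F c = (c.val : F) := by
    conv_lhs => rw [← ZMod.natCast_zmod_val c]
    exact map_natCast _ _
  rw [h, nsmul_eq_mul]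

/-- Additive subgroups invariant under `ρ` are invariant under polynomials in `ρ`. -/
theorem aeval_mul_mem {S : AddSubgroup F} {ρ : F} (hS : ∀ x ∈ S, ρ * x ∈ S) (h : (ZMod p)[X])
    {s : F} (hs : s ∈ S) : aeval ρ h * s ∈ S := by
  have hpow : ∀ (i : ℕ) (x : F), x ∈ S → ρ ^ i * x ∈ S := by
    intro i
    induction i with
    | zero => intro x hx; simpa using hx
    | succ i ih =>
      intro x hx
      rw [pow_succ, mul_assoc]
      exact ih _ (hS x hx)
  induction h using Polynomial.induction_on' with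
  | add f g hf hg =>
    rw [map_add, add_mul]
    exact S.add_mem hf hg
  | monomial i c =>
    rw [aeval_monomial, mul_assoc, algebraMap_mul]
    exact S.nsmul_mem (hpow i s hs) _

/-- Additive subgroups invariant under a root of unity are trivial. -/
theorem eq_bot_or_top (ha : a = orderOf (p : ZMod q)) (hF : Nat.card F = p ^ a) {ρ : F}
    (h1 : ρ ^ q = 1) (h2 : ρ ≠ 1) (S : AddSubgroup F) (hS : ∀ x ∈ S, ρ * x ∈ S) :
    S = ⊥ ∨ S = ⊤ := by
  by_cases hb : S = ⊥
  · exact Or.inl hb
  right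
  obtain ⟨s, hs, hs0⟩ := (AddSubgroup.ne_bot_iff_exists_ne_zero).mp hb |> fun ⟨⟨s, hs⟩, h⟩ =>
    (⟨s, hs, fun h0 => h (Subtype.ext h0)⟩ : ∃ s ∈ S, s ≠ 0)
  rw [eq_top_iff]
  intro y _
  obtain ⟨h, hh⟩ := aeval_surjective ha hF h1 h2 (y * s⁻¹)
  have := aeval_mul_mem hS h hs
  rwa [hh, mul_assoc, inv_mul_cancel₀ hs0, mul_one] at this

/-- There is a `q`-th root of unity different from `1`. -/
theorem exists_zeta (ha : a = orderOf (p : ZMod q)) (hF : Nat.card F = p ^ a) :
    ∃ ζ : F, ζ ^ q = 1 ∧ ζ ≠ 1 := by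
  have hc : Nat.card Fˣ = p ^ a - 1 := by
    classical
    haveI := Fintype.ofFinite F
    rw [Nat.card_eq_fintype_card, Fintype.card_units, ← Nat.card_eq_fintype_card, hF]
  have h1 : (p : ZMod q) ^ a = 1 := by
    rw [ha]
    exact pow_orderOf_eq_one _
  have hd : q ∣ Nat.card Fˣ := by
    rw [hc, ← ZMod.natCast_eq_zero_iff, Nat.cast_sub (Nat.one_le_pow _ _ hp.out.pos)]
    push_cast
    rw [h1, sub_self]
  obtain ⟨u, hu⟩ := exists_prime_orderOf_dvd_card' q hd
  refine ⟨u, ?_, ?_⟩
  · rw [← Units.val_pow_eq_pow_val, ← hu, pow_orderOf_eq_one, Units.val_one]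
  · intro h
    have : u = 1 := Units.ext h
    rw [this, orderOf_one] at hu
    exact hq.out.ne_one hu.symm

section Forms

variable {A : Type*} [AddCommGroup A] {ζ : F}

/-- Moving polynomials across an invariant form. -/
theorem form_aeval (hζ : ζ ≠ 0) (b : F →+ F →+ A) (hb : ∀ x y, b (ζ * x) (ζ * y) = b x y)
    (h : (ZMod p)[X]) (x y : F) : b (aeval ζ h * x) y = b x (aeval ζ⁻¹ h * y) := by
  have hpow : ∀ (i : ℕ) (x y : F), b (ζ ^ i * x) (ζ ^ i * y) = b x y := by
    intro i
    induction i with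
    | zero => intro x y; simp
    | succ i ih =>
      intro x y
      rw [pow_succ, mul_assoc, mul_assoc, ih, hb]
  have hpow2 : ∀ (i : ℕ) (x y : F), b (ζ ^ i * x) y = b x (ζ⁻¹ ^ i * y) := by
    intro i x y
    rw [← hpow i x (ζ⁻¹ ^ i * y), ← mul_assoc, ← mul_pow, mul_inv_cancel₀ hζ, one_pow, one_mul]
  induction h using Polynomial.induction_on' with
  | add f g hf hg =>
    simp only [map_add, add_mul, AddMonoidHom.add_apply, hf, hg]
  | monomial i c =>
    rw [aeval_monomial, aeval_monomial, mul_assoc, mul_assoc, algebraMap_mul, algebraMap_mul,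
      map_nsmul, map_nsmul, AddMonoidHom.nsmul_apply, hpow2]

/-- The form vanishes if `ζ⁻¹` is not a root of the minimal polynomial of `ζ`. -/
theorem form_eq_zero (hζ : ζ ≠ 0) (b : F →+ F →+ A) (hb : ∀ x y, b (ζ * x) (ζ * y) = b x y)
    (ht : aeval ζ⁻¹ (minpoly (ZMod p) ζ) ≠ 0) (x y : F) : b x y = 0 := by
  have h1 := form_aeval hζ b hb (minpoly (ZMod p) ζ) x ((aeval ζ⁻¹ (minpoly (ZMod p) ζ))⁻¹ * y)
  rw [minpoly.aeval, zero_mul, map_zero, AddMonoidHom.zero_apply, ← mul_assoc,
    mul_inv_cancel₀ ht, one_mul] at h1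
  exact h1.symm

end Forms

/-- Conjugates of `ζ` are Frobenius powers. -/
theorem exists_frob_pow {ζ ξ : F} (h : aeval ξ (minpoly (ZMod p) ζ) = 0) :
    ∃ i : ℕ, ξ = ζ ^ p ^ i := by
  obtain ⟨σ, hσ⟩ := minpoly.exists_algEquiv_of_root' (K := ZMod p) (Algebra.IsAlgebraic.isAlgebraic ζ) h
  obtain ⟨⟨i, hlt⟩, hi⟩ := (FiniteField.bijective_frobeniusAlgEquivOfAlgebraic_pow (ZMod p) F).2 σ
  refine ⟨i, ?_⟩
  rw [← hσ]
  have hi' : FiniteField.frobeniusAlgEquivOfAlgebraic (ZMod p) F ^ i = σ := hi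
  rw [← hi']
  clear hi hi' hσ hlt
  induction i with
  | zero => simp
  | succ i ih =>
    rw [pow_succ, AlgEquiv.mul_apply, FiniteField.coe_frobeniusAlgEquivOfAlgebraic, ZMod.card, map_pow, ih,
      ← pow_mul, pow_succ p i]

/-- In odd degree, forms vanish. -/
theorem form_vanish_odd (ha : a = orderOf (p : ZMod q)) (hF : Nat.card F = p ^ a) (hpq : p ≠ q)
    (hodd : a % 2 = 1) {ζ : F} (h1 : ζ ^ q = 1) (h2 : ζ ≠ 1)
    {A : Type*} [AddCommGroup A] (b : F →+ F →+ A) (hb0 : ∀ x, b x x = 0)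
    (hb : ∀ x y, b (ζ * x) (ζ * y) = b x y) (x y : F) : b x y = 0 := by
  have hζ : ζ ≠ 0 := by
    rintro rfl
    rw [zero_pow hq.out.ne_zero] at h1
    exact zero_ne_one h1
  by_cases hq2 : q = 2
  · -- `a = 1`
    subst hq2
    have hpodd : Odd p := hp.out.odd_of_ne_two hpq
    have hp1 : (p : ZMod 2) = 1 := (ZMod.natCast_eq_one_iff_odd).mpr hpodd
    have ha1 : a = 1 := by
      rw [ha, hp1, orderOf_one]
    subst ha1
    have hsurj : Function.Surjective (algebraMap (ZMod p) F) := by
      refine (Function.Injective.bijective_of_nat_card_le (algebraMap (ZMod p) F).injective ?_).2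
      rw [hF, Nat.card_zmod, pow_one]
    obtain ⟨c, rfl⟩ := hsurj x
    obtain ⟨d, rfl⟩ := hsurj y
    have e1 : algebraMap (ZMod p) F c = c.val • (1 : F) := by rw [← algebraMap_mul, mul_one]
    have e2 : algebraMap (ZMod p) F d = d.val • (1 : F) := by rw [← algebraMap_mul, mul_one]
    rw [e1, e2, map_nsmul, map_nsmul, AddMonoidHom.nsmul_apply, hb0]
    simp
  · apply form_eq_zero (p := p) hζ b hb
    intro ht
    obtain ⟨i, hi⟩ := exists_frob_pow ht
    have h3 : ζ ^ (p ^ i + 1) = 1 := by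
      rw [pow_succ, ← hi, inv_mul_cancel₀ hζ]
    have hord : orderOf ζ = q := orderOf_eq_prime h1 h2
    have hdvd : q ∣ p ^ i + 1 := hord ▸ orderOf_dvd_of_pow_eq_one h3
    have h4 : (p : ZMod q) ^ i = -1 := by
      have := (ZMod.natCast_eq_zero_iff (p ^ i + 1) q).mpr hdvd
      push_cast at this
      exact eq_neg_of_add_eq_zero_left this
    have h5 : (p : ZMod q) ^ (2 * i) = 1 := by
      rw [mul_comm, pow_mul, h4]
      ring
    have h6 : a ∣ 2 * i := by
      rw [ha]
      exact orderOf_dvd_of_pow_eq_one h5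
    have h7 : Nat.Coprime a 2 := by
      exact (Nat.Prime.coprime_iff_not_dvd Nat.prime_two).mpr (by omega) |>.symm
    have h8 : a ∣ i := h7.dvd_of_dvd_mul_left h6
    have h9 : (p : ZMod q) ^ i = 1 := by
      rw [ha] at h8
      exact orderOf_dvd_iff_pow_eq_one.mp h8
    rw [h4] at h9
    have h10 : ((2 : ℕ) : ZMod q) = 0 := by
      push_cast
      have : (2 : ZMod q) = 1 - (-1) := by ring
      rw [this, sub_eq_zero]
      exact h9.symm
    rw [ZMod.natCast_eq_zero_iff] at h10
    have := (Nat.prime_dvd_prime_iff_eq hq.out Nat.prime_two).mp h10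
    exact hq2 this

/-- Bound on the number of roots of `X ^ s + c X`. -/
theorem card_le_of_roots {s : ℕ} (hs : 2 ≤ s) (c : F) (S : AddSubgroup F)
    (h : ∀ x ∈ S, x ^ s + c * x = 0) : Nat.card S ≤ s := by
  classical
  let f : F[X] := X ^ s + (C c * X)
  have hdeg : (C c * X : F[X]).degree < s := by
    refine lt_of_le_of_lt (degree_C_mul_X_le c) ?_
    exact_mod_cast (by omega : 1 < s)
  have hmonic : f.Monic := monic_X_pow_add hdeg
  have hnat : f.natDegree = s := by
    apply natDegree_eq_of_degree_eq_some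
    rw [degree_add_eq_left_of_degree_lt (by rwa [degree_X_pow]), degree_X_pow]
  have hf0 : f ≠ 0 := hmonic.ne_zero
  have hroot : ∀ x : S, (x : F) ∈ f.roots.toFinset := by
    intro x
    rw [Multiset.mem_toFinset, mem_roots hf0]
    simp [f, IsRoot, h _ x.2]
  have h1 : Nat.card S ≤ Nat.card f.roots.toFinset := by
    refine Nat.card_le_card_of_injective (fun x : S => (⟨x, hroot x⟩ : f.roots.toFinset)) ?_
    intro x y hxy
    have h0 := congrArg (fun z : f.roots.toFinset => (z : F)) hxy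
    exact Subtype.ext h0
  rw [Nat.card_eq_fintype_card (α := f.roots.toFinset), Fintype.card_coe] at h1
  calc Nat.card S ≤ f.roots.toFinset.card := h1
    _ ≤ Multiset.card f.roots := Multiset.toFinset_card_le _
    _ ≤ f.natDegree := card_roots' f
    _ = s := hnat

/-- Ring homomorphisms commute with polynomial evaluation. -/
theorem ringHom_aeval (σ : F →+* F) (ρ : F) (h : (ZMod p)[X]) : σ (aeval ρ h) = aeval (σ ρ) h := by
  rw [aeval_def, hom_eval₂, aeval_def]
  congr 1
  exact Subsingleton.elim _ _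

/-- The data of the case of even degree. -/
theorem even_data (ha : a = orderOf (p : ZMod q)) (hF : Nat.card F = p ^ a) {c : ℕ}
    (hc : a = 2 * c) (hc0 : 0 < c) {ζ : F} (h1 : ζ ^ q = 1) (h2 : ζ ≠ 1) :
    ∃ (σ : F →+* F) (K : AddSubgroup F), (∀ x, σ (σ x) = x) ∧ σ ζ * ζ = 1 ∧ Nat.card K = p ^ c ∧
      (∀ x, x ∈ K ↔ σ x = x) ∧ (∀ k ∈ K, ∃ x, k = σ x + x) := by
  haveI : CharP F p := charP_of_injective_algebraMap (algebraMap (ZMod p) F).injective p
  haveI : ExpChar F p := ExpChar.prime hp.out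
  let σ : F →+* F := iterateFrobenius F p c
  have hσ : ∀ x, σ x = x ^ p ^ c := fun x => iterateFrobenius_def p c x
  have hσσ : ∀ x, σ (σ x) = x := by
    intro x
    rw [hσ, hσ, ← pow_mul, ← pow_add, ← two_mul, ← hc, ← hF]
    haveI := Fintype.ofFinite F
    rw [Nat.card_eq_fintype_card]
    exact FiniteField.pow_card x
  -- `p ^ c ≡ -1`
  have h3 : ((p : ZMod q) ^ c) ^ 2 = 1 := by
    rw [← pow_mul, mul_comm, ← hc, ha]
    exact pow_orderOf_eq_one _
  have h4 : (p : ZMod q) ^ c ≠ 1 := by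
    intro h
    have : a ∣ c := by
      rw [ha]
      exact orderOf_dvd_of_pow_eq_one h
    have := Nat.le_of_dvd hc0 this
    omega
  have h5 : (p : ZMod q) ^ c + 1 = 0 := by
    have h6 : ((p : ZMod q) ^ c - 1) * ((p : ZMod q) ^ c + 1) = 0 := by
      linear_combination h3
    rcases mul_eq_zero.mp h6 with h7 | h7
    · exact absurd (sub_eq_zero.mp h7) h4
    · exact h7
  have h8 : q ∣ p ^ c + 1 := by
    rw [← ZMod.natCast_eq_zero_iff]
    push_cast
    exact h5
  have hσζ : σ ζ * ζ = 1 := by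
    rw [hσ, ← pow_succ]
    obtain ⟨e, he⟩ := h8
    rw [he, pow_mul, h1, one_pow]
  let plus : F →+ F := (σ : F →+ F) + AddMonoidHom.id F
  let minus : F →+ F := (σ : F →+ F) - AddMonoidHom.id F
  have hplus : ∀ x, plus x = σ x + x := fun x => rfl
  have hminus : ∀ x, minus x = σ x - x := fun x => rfl
  have hs2 : 2 ≤ p ^ c := by
    calc 2 ≤ p := hp.out.two_le
      _ = p ^ 1 := (pow_one p).symm
      _ ≤ p ^ c := Nat.pow_le_pow_right hp.out.pos hc0
  have hK1 : Nat.card minus.ker ≤ p ^ c := by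
    refine card_le_of_roots hs2 (-1) _ ?_
    intro x hx
    have h9 : σ x - x = 0 := hx
    rw [hσ] at h9
    linear_combination h9
  have hK2 : Nat.card plus.ker ≤ p ^ c := by
    refine card_le_of_roots hs2 1 _ ?_
    intro x hx
    have h9 : σ x + x = 0 := hx
    rw [hσ] at h9
    linear_combination h9
  have hcard : Nat.card plus.ker * Nat.card plus.range = p ^ c * p ^ c := by
    have h10 := AddSubgroup.card_mul_index plus.ker
    rw [AddSubgroup.index_ker, hF, hc, two_mul, pow_add] at h10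
    exact h10
  have hrange : p ^ c ≤ Nat.card plus.range := by
    have h11 : p ^ c * p ^ c ≤ p ^ c * Nat.card plus.range := by
      rw [← hcard]
      exact Nat.mul_le_mul_right _ hK2
    exact Nat.le_of_mul_le_mul_left h11 (by positivity)
  have hle : plus.range ≤ minus.ker := by
    rintro _ ⟨x, rfl⟩
    change σ (plus x) - plus x = 0
    rw [hplus, map_add, hσσ]
    ring
  have hKcard : Nat.card minus.ker = p ^ c :=
    le_antisymm hK1 (hrange.trans (AddSubgroup.card_le_of_le hle))
  have heq : plus.range = minus.ker :=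
    AddSubgroup.eq_of_le_of_card_ge hle (by rw [hKcard]; exact hrange)
  refine ⟨σ, minus.ker, hσσ, hσζ, hKcard, ?_, ?_⟩
  · intro x
    exact ⟨fun h => sub_eq_zero.mp h, fun h => sub_eq_zero.mpr h⟩
  · intro k hk
    rw [← heq] at hk
    obtain ⟨x, rfl⟩ := hk
    exact ⟨x, rfl⟩

/-- The universal form in the case of even degree. -/
theorem even_universal (ha : a = orderOf (p : ZMod q)) (hF : Nat.card F = p ^ a) {ζ : F}
    (h1 : ζ ^ q = 1) (h2 : ζ ≠ 1) (σ : F →+* F) (K : AddSubgroup F)
    (hσζ : σ ζ * ζ = 1) (hK : ∀ k ∈ K, ∃ x, k = σ x + x)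
    {A : Type*} [AddCommGroup A] (b : F →+ F →+ A) (hb0 : ∀ x, b x x = 0)
    (hb : ∀ x y, b (ζ * x) (ζ * y) = b x y) :
    ∃ γ : F ⧸ K →+ A, ∀ x y, γ (((σ x * y : F) : F ⧸ K)) = b x y := by
  have hζ : ζ ≠ 0 := by
    rintro rfl
    rw [zero_pow hq.out.ne_zero] at h1
    exact zero_ne_one h1
  have hσinv : σ ζ = ζ⁻¹ := eq_inv_of_mul_eq_one_left hσζ
  have hl : ∀ x y, b x y = b 1 (σ x * y) := by
    intro x y
    obtain ⟨h, rfl⟩ := aeval_surjective ha hF h1 h2 x
    have := form_aeval hζ b hb h 1 y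
    rw [mul_one] at this
    rw [this, ringHom_aeval, hσinv]
  have hanti : ∀ x y, b x y + b y x = 0 := by
    intro x y
    have := hb0 (x + y)
    simp only [map_add, AddMonoidHom.add_apply, hb0, zero_add, add_zero] at this
    rwa [add_comm] at this
  have hvan : K ≤ (b 1).ker := by
    intro k hk
    obtain ⟨x, rfl⟩ := hK k hk
    rw [AddMonoidHom.mem_ker, map_add]
    have h3 := hl x 1
    rw [mul_one] at h3
    rw [← h3]
    exact hanti x 1
  refine ⟨QuotientAddGroup.lift K (b 1) hvan, ?_⟩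
  intro x y
  rw [hl x y]
  rfl

end Cfsg.Agent.Lib.Schmidt.Field
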