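import Mathlib
import Cfsg.Agent.Lib.Transfer.Basic
import Cfsg.Agent.Lib.Nilpotent.Elements

/-!
# A model of the universal minimal non-`p`-nilpotent group

Given a field `F`, a root of unity `ζ ≠ 1`, and an alternating `ζ`-invariant biadditive form
`β : F × F → Z`, the group `Gp D` is `F × Z × ZMod n` with the law coming from the cocycle `A`.
-/

set_option autoImplicit false

namespace Cfsg.Agent.Lib.Schmidt.Group

open Subgroup

universe u v w

/-- Data for the group. -/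
structure Data (F : Type u) (Z : Type v) [Field F] [AddCommGroup Z] (n : ℕ) where
  ζ : F
  hζ : ζ ^ n = 1
  hne : ζ ≠ 1
  β : F →+ F →+ Z
  β_self : ∀ x, β x x = 0
  β_inv : ∀ x y, β (ζ * x) (ζ * y) = β x y

variable {F : Type u} {Z : Type v} [Field F] [AddCommGroup Z] {n : ℕ}

namespace Data

variable (D : Data F Z n)

/-- The action of `ZMod n` on `F`. -/
def w (k : ZMod n) : F := D.ζ ^ k.val

/-- The inverse of `ζ - 1`. -/
def θ : F := (D.ζ - 1)⁻¹

theorem θ_mul (x : F) : (D.ζ - 1) * (D.θ * x) = x := by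
  have h : D.ζ - 1 ≠ 0 := sub_ne_zero.mpr D.hne
  unfold θ
  field_simp

/-- The cocycle. -/
def A : F →+ F →+ Z :=
  AddMonoidHom.mk' (fun x => AddMonoidHom.mk'
    (fun y => D.β (D.θ * x) (D.θ * y) - D.β (D.ζ * (D.θ * x)) (D.θ * y))
    (by
      intro a b
      simp only [mul_add, map_add]
      abel))
    (by
      intro a b
      ext y
      simp only [mul_add, map_add, AddMonoidHom.mk'_apply, AddMonoidHom.add_apply]
      abel)

theorem A_apply (x y : F) : D.A x y = D.β (D.θ * x) (D.θ * y) - D.β (D.ζ * (D.θ * x)) (D.θ * y) := rfl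

theorem A_inv (x y : F) : D.A (D.ζ * x) (D.ζ * y) = D.A x y := by
  simp only [A_apply]
  rw [mul_left_comm D.θ D.ζ x, mul_left_comm D.θ D.ζ y, D.β_inv, D.β_inv]

theorem A_pow (m : ℕ) (x y : F) : D.A (D.ζ ^ m * x) (D.ζ ^ m * y) = D.A x y := by
  induction m generalizing x y with
  | zero => simp
  | succ m ih =>
    rw [pow_succ, mul_assoc, mul_assoc, ih, A_inv]

theorem A_w (k : ZMod n) (x y : F) : D.A (D.w k * x) (D.w k * y) = D.A x y := D.A_pow _ x y

theorem β_anti (x y : F) : D.β y x = - D.β x y := by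
  have h := D.β_self (x + y)
  simp only [map_add, AddMonoidHom.add_apply, D.β_self, zero_add, add_zero] at h
  exact eq_neg_of_add_eq_zero_left h

/-- The antisymmetrization of the cocycle is `β`. -/
theorem A_sub (x y : F) : D.A x y - D.A y x = D.β x y := by
  have hx := D.θ_mul x
  have hy := D.θ_mul y
  set a := D.θ * x with ha
  set b := D.θ * y with hb
  have e : D.β x y = D.β (D.ζ * a - a) (D.ζ * b - b) := by
    rw [← hx, ← hy]
    congr 2 <;> ring
  have h1 : D.β (D.ζ * a - a) (D.ζ * b - b) =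
      D.β (D.ζ * a) (D.ζ * b) - D.β (D.ζ * a) b - D.β a (D.ζ * b) + D.β a b := by
    simp only [map_sub, AddMonoidHom.sub_apply]
    abel
  rw [e, h1, D.β_inv]
  simp only [A_apply, ← ha, ← hb]
  rw [D.β_anti a b, D.β_anti a (D.ζ * b)]
  abel

theorem w_zero [NeZero n] : D.w 0 = 1 := by
  simp [w, ZMod.val_zero]

theorem w_add [NeZero n] (k l : ZMod n) : D.w (k + l) = D.w k * D.w l := by
  unfold w
  rw [ZMod.val_add, ← pow_add]
  exact (pow_eq_pow_mod _ D.hζ).symm

theorem w_neg_mul [NeZero n] (k : ZMod n) : D.w (-k) * D.w k = 1 := by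
  rw [← w_add, neg_add_cancel, w_zero]

theorem w_mul_neg [NeZero n] (k : ZMod n) : D.w k * D.w (-k) = 1 := by
  rw [mul_comm, w_neg_mul]

end Data

/-- The group. -/
def Gp (_D : Data F Z n) : Type (max u v) := F × Z × ZMod n

variable {D : Data F Z n}

namespace Gp

/-- Constructor. -/
def mk (D : Data F Z n) (x : F) (z : Z) (k : ZMod n) : Gp D := (x, z, k)

/-- first coordinate -/
def f₁ (a : Gp D) : F := a.1
/-- second coordinate -/
def f₂ (a : Gp D) : Z := a.2.1
/-- third coordinate -/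
def f₃ (a : Gp D) : ZMod n := a.2.2

@[simp] theorem f₁_mk (x : F) (z : Z) (k : ZMod n) : f₁ (mk D x z k) = x := rfl
@[simp] theorem f₂_mk (x : F) (z : Z) (k : ZMod n) : f₂ (mk D x z k) = z := rfl
@[simp] theorem f₃_mk (x : F) (z : Z) (k : ZMod n) : f₃ (mk D x z k) = k := rfl

theorem ext' {a b : Gp D} (h1 : f₁ a = f₁ b) (h2 : f₂ a = f₂ b) (h3 : f₃ a = f₃ b) : a = b :=
  Prod.ext h1 (Prod.ext h2 h3)

theorem eta (a : Gp D) : mk D (f₁ a) (f₂ a) (f₃ a) = a := rfl

instance : Mul (Gp D) :=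
  ⟨fun a b => mk D (f₁ a + D.w (f₃ a) * f₁ b) (f₂ a + f₂ b + D.A (f₁ a) (D.w (f₃ a) * f₁ b)) (f₃ a + f₃ b)⟩

instance : One (Gp D) := ⟨mk D 0 0 0⟩

instance : Inv (Gp D) :=
  ⟨fun a => mk D (-(D.w (-f₃ a) * f₁ a)) (-f₂ a + D.A (f₁ a) (f₁ a)) (-f₃ a)⟩

@[simp] theorem f₁_mul (a b : Gp D) : f₁ (a * b) = f₁ a + D.w (f₃ a) * f₁ b := rfl
@[simp] theorem f₂_mul (a b : Gp D) : f₂ (a * b) = f₂ a + f₂ b + D.A (f₁ a) (D.w (f₃ a) * f₁ b) := rfl
@[simp] theorem f₃_mul (a b : Gp D) : f₃ (a * b) = f₃ a + f₃ b := rfl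
@[simp] theorem f₁_one : f₁ (1 : Gp D) = 0 := rfl
@[simp] theorem f₂_one : f₂ (1 : Gp D) = 0 := rfl
@[simp] theorem f₃_one : f₃ (1 : Gp D) = 0 := rfl
@[simp] theorem f₁_inv (a : Gp D) : f₁ a⁻¹ = -(D.w (-f₃ a) * f₁ a) := rfl
@[simp] theorem f₂_inv (a : Gp D) : f₂ a⁻¹ = -f₂ a + D.A (f₁ a) (f₁ a) := rfl
@[simp] theorem f₃_inv (a : Gp D) : f₃ a⁻¹ = -f₃ a := rfl

variable [NeZero n]

instance : Group (Gp D) :=
  Group.ofLeftAxioms
    (by
      intro a b c
      apply ext'
      · simp only [f₁_mul, f₃_mul, D.w_add]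
        ring
      · simp only [f₁_mul, f₂_mul, f₃_mul, D.w_add, map_add, AddMonoidHom.add_apply, mul_add]
        have := D.A_w (f₃ a) (f₁ b) (D.w (f₃ b) * f₁ c)
        rw [← mul_assoc] at this
        rw [this, mul_assoc]
        abel
      · simp only [f₃_mul]
        ring)
    (by
      intro a
      apply ext'
      · simp [D.w_zero]
      · simp [D.w_zero]
      · simp)
    (by
      intro a
      apply ext'
      · simp [D.w_neg_mul]
      · simp only [f₂_mul, f₂_inv, f₁_inv, f₃_inv, f₂_one, neg_neg]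
        rw [map_neg, AddMonoidHom.neg_apply, D.A_w]
        abel
      · simp)

theorem mul_mk (x x' : F) (z z' : Z) (k k' : ZMod n) :
    mk D x z k * mk D x' z' k' = mk D (x + D.w k * x') (z + z' + D.A x (D.w k * x')) (k + k') := rfl

/-- Projection to `ZMod n`. -/
def π : Gp D →* Multiplicative (ZMod n) :=
  MonoidHom.mk' (fun a => Multiplicative.ofAdd (f₃ a)) (fun a b => by simp [ofAdd_add])

theorem mem_ker_π {a : Gp D} : a ∈ (π : Gp D →* _).ker ↔ f₃ a = 0 := by
  rw [MonoidHom.mem_ker]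
  exact Multiplicative.ofAdd.apply_eq_iff_eq

theorem f₃_pow (a : Gp D) (m : ℕ) : f₃ (a ^ m) = m • f₃ a := by
  induction m with
  | zero => simp
  | succ m ih => rw [pow_succ, f₃_mul, ih, succ_nsmul]

/-- The elements with trivial second and first coordinates and acting trivially are central. -/
theorem comm_of_zero_left {k : ZMod n} (hk : D.w k = 1) (a : Gp D) :
    mk D 0 0 k * a = a * mk D 0 0 k := by
  apply ext'
  · simp [hk]
  · simp [hk]
  · simp [add_comm]

theorem comm_of_second (z : Z) (a : Gp D) : mk D 0 z 0 * a = a * mk D 0 z 0 := by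
  apply ext'
  · simp [D.w_zero]
  · simp [D.w_zero]
    abel
  · simp

theorem w_one_eq (hn : 1 < n) : D.w 1 = D.ζ := by
  haveI : Fact (1 < n) := ⟨hn⟩
  simp [Data.w, ZMod.val_one]

instance [Finite F] [Finite Z] : Finite (Gp D) := by
  unfold Gp
  infer_instance

theorem card_eq [Finite F] [Finite Z] : Nat.card (Gp D) = Nat.card F * Nat.card Z * n := by
  have : Nat.card (Gp D) = Nat.card (F × Z × ZMod n) := rfl
  rw [this, Nat.card_prod, Nat.card_prod, Nat.card_zmod, mul_assoc]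

/-! ### The map into a target group -/

section Lift

variable {X : Type w} [Group X] (s : F → X) (c : Z →+ Additive X) (g : X)

/-- The lifting of a suitable triple to a homomorphism. -/
theorem exists_lift (hc : ∀ (z : Z) (y : X), (c z).toMul * y = y * (c z).toMul)
    (hs : ∀ x y : F, s x * s y = s (x + y) * (c (D.A x y)).toMul)
    (hconj : ∀ x : F, g * s x * g⁻¹ = s (D.ζ * x))
    (hgn : g ^ n = 1) :
    ∃ φ : Gp D →* X, ∀ a : Gp D, φ a = s (f₁ a) * (c (f₂ a)).toMul * g ^ (f₃ a).val := by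
  have hpow : ∀ (m : ℕ) (x : F), g ^ m * s x = s (D.ζ ^ m * x) * g ^ m := by
    intro m
    induction m with
    | zero => simp
    | succ m ih =>
      intro x
      have h1 : g * s x = s (D.ζ * x) * g := by
        rw [← hconj x]
        group
      rw [pow_succ, mul_assoc, h1, ← mul_assoc, ih, mul_assoc, ← pow_succ, pow_succ D.ζ, mul_assoc]
  have hadd : ∀ k l : ZMod n, g ^ (k + l).val = g ^ k.val * g ^ l.val := by
    intro k l
    rw [ZMod.val_add, ← pow_add]
    exact (pow_eq_pow_mod _ hgn).symm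
  have hcadd : ∀ z z' : Z, (c (z + z')).toMul = (c z).toMul * (c z').toMul := by
    intro z z'
    rw [map_add]
    rfl
  refine ⟨MonoidHom.mk' (fun a => s (f₁ a) * (c (f₂ a)).toMul * g ^ (f₃ a).val) ?_, fun a => rfl⟩
  intro a b
  simp only [f₁_mul, f₂_mul, f₃_mul]
  rw [hadd, hcadd, hcadd]
  have e1 : g ^ (f₃ a).val * s (f₁ b) = s (D.w (f₃ a) * f₁ b) * g ^ (f₃ a).val := hpow _ _
  calc s (f₁ a + D.w (f₃ a) * f₁ b) *
        ((c (f₂ a)).toMul * (c (f₂ b)).toMul * (c (D.A (f₁ a) (D.w (f₃ a) * f₁ b))).toMul) *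
          (g ^ (f₃ a).val * g ^ (f₃ b).val)
      = (s (f₁ a + D.w (f₃ a) * f₁ b) * (c (D.A (f₁ a) (D.w (f₃ a) * f₁ b))).toMul) *
          ((c (f₂ a)).toMul * (c (f₂ b)).toMul) * (g ^ (f₃ a).val * g ^ (f₃ b).val) := by
        have h3 := hc (D.A (f₁ a) (D.w (f₃ a) * f₁ b)) ((c (f₂ a)).toMul * (c (f₂ b)).toMul)
        simp only [mul_assoc]
        rw [← mul_assoc (c (f₂ a)).toMul, ← mul_assoc ((c (f₂ a)).toMul * (c (f₂ b)).toMul)]
        rw [← h3]
        simp only [mul_assoc]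
    _ = s (f₁ a) * s (D.w (f₃ a) * f₁ b) * ((c (f₂ a)).toMul * (c (f₂ b)).toMul) *
          (g ^ (f₃ a).val * g ^ (f₃ b).val) := by rw [hs]
    _ = s (f₁ a) * (c (f₂ a)).toMul * (s (D.w (f₃ a) * f₁ b) * g ^ (f₃ a).val) *
          ((c (f₂ b)).toMul * g ^ (f₃ b).val) := by
        have h4 := hc (f₂ a) (s (D.w (f₃ a) * f₁ b))
        have h5 := hc (f₂ b) (g ^ (f₃ a).val)
        calc _ = s (f₁ a) * (s (D.w (f₃ a) * f₁ b) * (c (f₂ a)).toMul) * ((c (f₂ b)).toMul * g ^ (f₃ a).val) * g ^ (f₃ b).val := by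
              simp only [mul_assoc]
          _ = _ := by
              rw [← h4, h5]
              simp only [mul_assoc]
    _ = s (f₁ a) * (c (f₂ a)).toMul * g ^ (f₃ a).val * (s (f₁ b) * (c (f₂ b)).toMul * g ^ (f₃ b).val) := by
        rw [← e1]
        simp only [mul_assoc]

end Lift

end Gp

end Cfsg.Agent.Lib.Schmidt.Group
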