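import Mathlib
import Cfsg.Agent.Lib.Schmidt.Group
import Cfsg.Agent.Lib.Transfer.NilpMax

/-!
# Properties of the model: no normal complement, proper subgroups nilpotent
-/

set_option autoImplicit false

namespace Cfsg.Agent.Lib.Schmidt.Props

open Cfsg.Agent.Lib.Schmidt.Group Cfsg.Agent.Lib.Schmidt.Group.Gp Cfsg.Agent.Lib.Transfer.Basic

universe u v

variable {F : Type u} {Z : Type v} [Field F] [AddCommGroup Z] {n : ℕ} [NeZero n] {D : Data F Z n}

theorem π_surjective : Function.Surjective (π : Gp D →* Multiplicative (ZMod n)) := by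
  intro k
  exact ⟨mk D 0 0 (Multiplicative.toAdd k), rfl⟩

/-- The kernel of the projection is a `p`-group. -/
theorem isPGroup_ker [Finite F] [Finite Z] {p : ℕ} [Fact p.Prime] {a b : ℕ} (hF : Nat.card F = p ^ a)
    (hZ : Nat.card Z = p ^ b) : IsPGroup p (π : Gp D →* Multiplicative (ZMod n)).ker := by
  have h1 : Nat.card (π : Gp D →* Multiplicative (ZMod n)).ker *
      (π : Gp D →* Multiplicative (ZMod n)).ker.index = Nat.card (Gp D) :=
    Subgroup.card_mul_index _
  have h2 : (π : Gp D →* Multiplicative (ZMod n)).ker.index = n := by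
    rw [Subgroup.index_ker]
    have h0 : (π : Gp D →* Multiplicative (ZMod n)).range = ⊤ :=
      MonoidHom.range_eq_top.mpr π_surjective
    rw [h0, Subgroup.card_top]
    exact (Nat.card_congr Multiplicative.toAdd).trans (Nat.card_zmod n)
  rw [h2, card_eq, hF, hZ] at h1
  have h3 : Nat.card (π : Gp D →* Multiplicative (ZMod n)).ker = p ^ (a + b) := by
    have hn : 0 < n := Nat.pos_of_ne_zero (NeZero.ne n)
    rw [pow_add]
    exact Nat.eq_of_mul_eq_mul_right hn h1
  exact IsPGroup.of_card h3

/-- Elements of the projection kernel with second coordinate only are central. -/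
theorem mk_second_mem_center (z : Z) : mk D 0 z 0 ∈ Subgroup.center (Gp D) := by
  rw [Subgroup.mem_center_iff]
  intro a
  exact (comm_of_second z a).symm

theorem hasNormal_false [Finite F] [Finite Z] {p q r : ℕ} [Fact p.Prime] [Fact q.Prime] (hpq : p ≠ q)
    (hr : 1 ≤ r) (hn : n = q ^ r) {a b : ℕ} (hF : Nat.card F = p ^ a) (hZ : Nat.card Z = p ^ b) :
    ¬ Cfsg.HasNormalPComplement p (Gp D) := by
  intro h
  obtain ⟨N, hN, h1, h2⟩ := hasNormalPComplement_iff.mp h
  have hq : 1 < q := (Fact.out : q.Prime).one_lt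
  have hn1 : 1 < n := by
    rw [hn]
    exact Nat.one_lt_pow (by omega) hq
  haveI : Fact (1 < n) := ⟨hn1⟩
  have hcop : Nat.Coprime q p :=
    (Nat.coprime_primes Fact.out Fact.out).mpr (Ne.symm hpq)
  -- `e` has order dividing `n`.
  let e : Gp D := mk D 0 0 1
  have hepow : ∀ m : ℕ, e ^ m = mk D 0 0 (m : ZMod n) := by
    intro m
    induction m with
    | zero =>
      apply ext'
      · simp
      · simp
      · simp [e]
    | succ m ih =>
      rw [pow_succ, ih]
      apply ext'
      · simp [e]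
      · simp [e]
      · simp [e]
  have he1 : e ^ n = 1 := by
    rw [hepow]
    apply ext'
    · simp
    · simp
    · simp
  have hord : Nat.Coprime (orderOf e) p := by
    have h3 : orderOf e ∣ q ^ r := hn ▸ orderOf_dvd_of_pow_eq_one he1
    exact Nat.Coprime.coprime_dvd_left h3 (Nat.Coprime.pow_left r hcop)
  have heN : e ∈ N := (mem_iff_coprime_of_normal N h1 h2 e).mpr hord
  let u : Gp D := mk D 1 0 0
  let v : Gp D := e * u * e⁻¹ * u⁻¹
  have hvN : v ∈ N := by
    have h4 : u * e⁻¹ * u⁻¹ ∈ N := hN.conj_mem _ (N.inv_mem heN) u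
    have h5 := N.mul_mem heN h4
    have h6 : e * (u * e⁻¹ * u⁻¹) = v := by
      simp only [v, mul_assoc]
    rwa [h6] at h5
  have hvker : v ∈ (π : Gp D →* Multiplicative (ZMod n)).ker := by
    rw [mem_ker_π]
    simp [v, e, u]
  have hv1 : v = 1 := by
    have hP := isPGroup_ker (D := D) hF hZ
    obtain ⟨k, hk⟩ := IsPGroup.iff_orderOf.mp hP ⟨v, hvker⟩
    rw [Subgroup.orderOf_mk] at hk
    have h7 : Nat.Coprime (orderOf v) p := (mem_iff_coprime_of_normal N h1 h2 v).mp hvN
    rw [hk] at h7
    have h8 : k = 0 := by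
      by_contra hk0
      have h9 : p ∣ p ^ k := dvd_pow_self p hk0
      have h10 := Nat.Coprime.eq_one_of_dvd h7.symm h9
      exact (Fact.out : p.Prime).ne_one h10
    rw [h8, pow_zero] at hk
    exact orderOf_eq_one_iff.mp hk
  have hcomm : e * u = u * e := by
    have h6 : e * u * e⁻¹ * u⁻¹ = 1 := hv1
    calc e * u = e * u * e⁻¹ * u⁻¹ * (u * e) := by group
      _ = u * e := by rw [h6, one_mul]
  have h9 := congrArg f₁ hcomm
  simp only [f₁_mul, e, u, f₁_mk, f₃_mk, mul_zero, add_zero, zero_add, mul_one] at h9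
  rw [w_one_eq hn1] at h9
  exact D.hne h9

/-- Proper subgroups of the model are nilpotent. -/
theorem nilpotent_of_ne_top [Finite F] [Finite Z] {p q r : ℕ} [Fact p.Prime] [Fact q.Prime]
    (hr : 1 ≤ r) (hn : n = q ^ r) {a b : ℕ} (hF : Nat.card F = p ^ a) (hZ : Nat.card Z = p ^ b)
    (hζq : D.ζ ^ q = 1)
    (hgen : ∀ S : AddSubgroup F, (∀ x ∈ S, D.ζ * x ∈ S) → S = ⊥ ∨ S = ⊤)
    (hspan : AddSubgroup.closure (Set.range fun xy : F × F => D.β xy.1 xy.2) = ⊤)
    (K : Subgroup (Gp D)) (hK : K ≠ ⊤) : Group.IsNilpotent K := by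
  have hq : 1 < q := (Fact.out : q.Prime).one_lt
  have hn1 : 1 < n := by
    rw [hn]
    exact Nat.one_lt_pow (by omega) hq
  haveI : Fact (1 < n) := ⟨hn1⟩
  have hP := isPGroup_ker (D := D) hF hZ
  by_cases hcase : ∀ a ∈ K, D.w (f₃ a) = 1
  · -- all of `K` acts trivially
    let ρ : K →* (π : Gp D →* Multiplicative (ZMod n)).ker :=
      MonoidHom.mk' (fun a => ⟨mk D (f₁ (a : Gp D)) (f₂ (a : Gp D)) 0, by
        rw [mem_ker_π]; rfl⟩) (by
        intro a b
        apply Subtype.ext
        apply ext'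
        · simp [hcase _ a.2, D.w_zero]
        · simp [hcase _ a.2, D.w_zero]
        · simp)
    haveI : Group.IsNilpotent (π : Gp D →* Multiplicative (ZMod n)).ker := hP.isNilpotent
    refine isNilpotent_of_ker_le_center ρ ?_
    intro a ha
    have h1 : ρ a = 1 := ha
    have h2 : f₁ (a : Gp D) = 0 := by
      have h0 := congrArg (fun b : (π : Gp D →* Multiplicative (ZMod n)).ker => f₁ (b : Gp D)) h1
      exact h0
    have h3 : f₂ (a : Gp D) = 0 := by
      have h0 := congrArg (fun b : (π : Gp D →* Multiplicative (ZMod n)).ker => f₂ (b : Gp D)) h1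
      exact h0
    rw [Subgroup.mem_center_iff]
    intro b
    apply Subtype.ext
    have h4 : (a : Gp D) = mk D 0 0 (f₃ (a : Gp D)) := by
      apply ext' <;> simp [h2, h3]
    have h5 := comm_of_zero_left (hcase _ a.2) (b : Gp D)
    rw [← h4] at h5
    exact h5.symm
  · -- some element acts nontrivially
    push_neg at hcase
    obtain ⟨e, heK, hew⟩ := hcase
    have hcop : Nat.Coprime (f₃ e).val q := by
      rw [Nat.coprime_comm, Nat.Prime.coprime_iff_not_dvd Fact.out]
      rintro ⟨c, hc⟩
      apply hew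
      unfold Data.w
      rw [hc, pow_mul, hζq, one_pow]
    -- `S`: first coordinates of `K ∩ ker π`.
    let S : AddSubgroup F :=
      { carrier := {x | ∃ a ∈ K, f₃ a = 0 ∧ f₁ a = x}
        zero_mem' := ⟨1, K.one_mem, rfl, rfl⟩
        add_mem' := by
          rintro _ _ ⟨a, ha, ha3, rfl⟩ ⟨b, hb, hb3, rfl⟩
          refine ⟨a * b, K.mul_mem ha hb, by simp [ha3, hb3], by simp [ha3, D.w_zero]⟩
        neg_mem' := by
          rintro _ ⟨a, ha, ha3, rfl⟩
          refine ⟨a⁻¹, K.inv_mem ha, by simp [ha3], by simp [ha3, D.w_zero]⟩ }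
    have hSmem : ∀ {x : F}, x ∈ S ↔ ∃ a ∈ K, f₃ a = 0 ∧ f₁ a = x := Iff.rfl
    have hSw : ∀ x ∈ S, D.w (f₃ e) * x ∈ S := by
      rintro _ ⟨a, ha, ha3, rfl⟩
      refine ⟨e * a * e⁻¹, K.mul_mem (K.mul_mem heK ha) (K.inv_mem heK), by simp [ha3], ?_⟩
      simp only [f₁_mul, f₃_mul, f₁_inv, f₃_inv, ha3, add_zero, mul_add]
      have h1 : D.w (f₃ e) * -(D.w (-f₃ e) * f₁ e) = - f₁ e := by
        rw [mul_neg, ← mul_assoc, D.w_mul_neg, one_mul]
      rw [h1]
      ring
    obtain ⟨m, -, hm⟩ := Nat.exists_mul_mod_eq_one_of_coprime hcop hq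
    have hζw : D.w (f₃ e) ^ m = D.ζ := by
      unfold Data.w
      rw [← pow_mul, pow_eq_pow_mod _ hζq, hm, pow_one]
    have hSwm : ∀ (j : ℕ), ∀ x ∈ S, D.w (f₃ e) ^ j * x ∈ S := by
      intro j
      induction j with
      | zero => intro x hx; simpa using hx
      | succ j ih =>
        intro x hx
        rw [pow_succ, mul_assoc]
        exact ih _ (hSw x hx)
    have hSζ : ∀ x ∈ S, D.ζ * x ∈ S := by
      intro x hx
      rw [← hζw]
      exact hSwm m x hx
    rcases hgen S hSζ with hS | hS
    · -- `S = ⊥`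
      let f : K →* Multiplicative (ZMod n) := (π : Gp D →* Multiplicative (ZMod n)).comp K.subtype
      refine isNilpotent_of_ker_le_center f ?_
      intro a ha
      have h1 : f₃ (a : Gp D) = 0 := by
        have h2 : (a : Gp D) ∈ (π : Gp D →* Multiplicative (ZMod n)).ker := ha
        exact mem_ker_π.mp h2
      have h2 : f₁ (a : Gp D) ∈ S := ⟨a, a.2, h1, rfl⟩
      rw [hS, AddSubgroup.mem_bot] at h2
      have h4 : (a : Gp D) = mk D 0 (f₂ (a : Gp D)) 0 := by
        apply ext' <;> simp [h1, h2]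
      rw [Subgroup.mem_center_iff]
      intro b
      apply Subtype.ext
      have h5 := comm_of_second (D := D) (f₂ (a : Gp D)) (b : Gp D)
      rw [← h4] at h5
      exact h5.symm
    · -- `S = ⊤`
      exfalso
      apply hK
      have hSall : ∀ x : F, ∃ a ∈ K, f₃ a = 0 ∧ f₁ a = x := by
        intro x
        have : x ∈ S := by rw [hS]; trivial
        exact this
      -- second coordinates
      let T : AddSubgroup Z :=
        { carrier := {z | mk D 0 z 0 ∈ K}
          zero_mem' := K.one_mem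
          add_mem' := by
            intro z z' hz hz'
            have h1 := K.mul_mem hz hz'
            have h2 : mk D 0 z 0 * mk D 0 z' 0 = mk D 0 (z + z') 0 := by
              apply ext' <;> simp [D.w_zero]
            rwa [h2] at h1
          neg_mem' := by
            intro z hz
            have h1 := K.inv_mem hz
            have h2 : (mk D 0 z 0)⁻¹ = mk D 0 (-z) 0 := by
              apply ext' <;> simp
            rwa [h2] at h1 }
      have hTtop : T = ⊤ := by
        rw [eq_top_iff, ← hspan, AddSubgroup.closure_le]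
        rintro _ ⟨⟨x, y⟩, rfl⟩
        obtain ⟨a, ha, ha3, ha1⟩ := hSall x
        obtain ⟨b, hb, hb3, hb1⟩ := hSall y
        have h1 : a * b * (b * a)⁻¹ ∈ K := K.mul_mem (K.mul_mem ha hb) (K.inv_mem (K.mul_mem hb ha))
        have h2 : a * b = mk D 0 (D.β x y) 0 * (b * a) := by
          apply ext'
          · simp [ha3, hb3, D.w_zero, ha1, hb1, add_comm]
          · simp only [f₂_mul, f₃_mul, f₁_mul, f₂_mk, f₁_mk, f₃_mk, ha3, hb3, ha1, hb1, D.w_zero,
              one_mul, zero_add, map_zero, AddMonoidHom.zero_apply, add_zero]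
            rw [← D.A_sub x y]
            have : D.A y x = D.A y x := rfl
            abel
          · simp [ha3, hb3]
        have h3 : a * b * (b * a)⁻¹ = mk D 0 (D.β x y) 0 := by
          rw [h2]; group
        rw [h3] at h1
        exact h1
      have hT : ∀ z : Z, mk D 0 z 0 ∈ K := by
        intro z
        have : z ∈ T := by rw [hTtop]; trivial
        exact this
      have hker : ∀ a : Gp D, f₃ a = 0 → a ∈ K := by
        intro a ha3
        obtain ⟨b, hb, hb3, hb1⟩ := hSall (f₁ a)
        have h1 := K.mul_mem hb (hT (f₂ a - f₂ b))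
        have h2 : b * mk D 0 (f₂ a - f₂ b) 0 = a := by
          apply ext'
          · simp [hb3, hb1, D.w_zero]
          · simp [hb3, hb1, D.w_zero]
          · simp [hb3, ha3]
        rwa [h2] at h1
      -- a generator
      have hcop2 : Nat.Coprime (f₃ e).val n := by
        have h0 := Nat.Coprime.pow_right r hcop
        rwa [← hn] at h0
      obtain ⟨m2, -, hm2⟩ := Nat.exists_mul_mod_eq_one_of_coprime hcop2 hn1
      rw [eq_top_iff]
      intro a _
      have hpow : f₃ (e ^ (m2 * (f₃ a).val)) = f₃ a := by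
        rw [f₃_pow]
        have h3 : ((f₃ e).val * m2 : ℕ) = (1 : ZMod n) := by
          rw [← Nat.mod_add_div ((f₃ e).val * m2) n, hm2]
          simp
        have h4 : ((f₃ e).val : ZMod n) = f₃ e := ZMod.natCast_zmod_val _
        simp only [nsmul_eq_mul]
        push_cast
        rw [ZMod.natCast_zmod_val]
        push_cast at h3
        rw [h4] at h3
        calc (m2 : ZMod n) * f₃ a * f₃ e = (f₃ e * m2) * f₃ a := by ring
          _ = f₃ a := by rw [h3, one_mul]
      have h5 : (e ^ (m2 * (f₃ a).val))⁻¹ * a ∈ K := hker _ (by simp [hpow])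
      have h6 := K.mul_mem (K.pow_mem heK (m2 * (f₃ a).val)) h5
      rwa [mul_inv_cancel_left] at h6

end Cfsg.Agent.Lib.Schmidt.Props
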