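import Mathlib
import Cfsg.Agent.Lib.Schmidt.Struct
import Cfsg.Agent.Lib.Schmidt.Group
import Cfsg.Agent.Lib.Schmidt.Props

/-!
# The homomorphism from the model onto a minimal non-`p`-nilpotent group
-/

set_option autoImplicit false

namespace Cfsg.Agent.Lib.Schmidt.Lift

open Subgroup Cfsg.Agent.Lib.Schmidt.Struct Cfsg.Agent.Lib.Schmidt.Group
  Cfsg.Agent.Lib.Schmidt.Group.Gp
open scoped commutatorElement

universe u v w

section Comm

variable {X : Type u} [Group X]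

/-- Class-two calculus: the identity of `τ`. -/
theorem tau_mul {g u v : X} (h1 : ⁅v, u⁻¹⁆ = ⁅u, v⁆) (h2 : ⁅v, g * u * g⁻¹⁆ = ⁅g * u * g⁻¹, v⁆⁻¹)
    (h3 : ⁅v, u⁻¹ * (g * u * g⁻¹)⁆ = ⁅v, u⁻¹⁆ * ⁅v, g * u * g⁻¹⁆)
    (hz : ∀ y, ⁅v, u⁻¹ * (g * u * g⁻¹)⁆ * y = y * ⁅v, u⁻¹ * (g * u * g⁻¹)⁆) :
    (u⁻¹ * (g * u * g⁻¹)) * (v⁻¹ * (g * v * g⁻¹)) =
      ((u * v)⁻¹ * (g * (u * v) * g⁻¹)) * (⁅u, v⁆ * ⁅g * u * g⁻¹, v⁆⁻¹) := by
  have hY : ⁅u, v⁆ * ⁅g * u * g⁻¹, v⁆⁻¹ = ⁅v, u⁻¹ * (g * u * g⁻¹)⁆ := by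
    rw [h3, h1, h2]
  rw [hY]
  set t := u⁻¹ * (g * u * g⁻¹) with ht
  have e1 : (u * v)⁻¹ * (g * (u * v) * g⁻¹) = v⁻¹ * t * (g * v * g⁻¹) := by
    rw [ht]
    group
  rw [e1]
  have e2 : v⁻¹ * t * (g * v * g⁻¹) * ⁅v, t⁆ = v⁻¹ * t * ⁅v, t⁆ * (g * v * g⁻¹) := by
    rw [mul_assoc (v⁻¹ * t), mul_assoc (v⁻¹ * t) ⁅v, t⁆, hz]
  rw [e2]
  have e3 : v⁻¹ * t * ⁅v, t⁆ = t * v⁻¹ := by
    have e4 : ⁅v, t⁆ = v * t * v⁻¹ * t⁻¹ := rfl
    have e5 : t * ⁅v, t⁆ = ⁅v, t⁆ * t := (hz t).symm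
    rw [mul_assoc, e5, e4]
    group
  rw [e3]
  exact (mul_assoc _ _ _).symm

end Comm

/-- The center, as a commutative group. -/
def CC (X : Type u) [Group X] : Type u := ↥(center X)

instance (X : Type u) [Group X] : CommGroup (CC X) :=
  { (inferInstance : Group (center X)) with
    mul_comm := fun a b => Subtype.ext (Subgroup.mem_center_iff.mp b.2 (Subtype.val a)) }

/-- The value of an element of the center. -/
def CC.val {X : Type u} [Group X] (a : CC X) : X := Subtype.val a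

theorem CC.val_mul {X : Type u} [Group X] (a b : CC X) : CC.val (a * b) = CC.val a * CC.val b := rfl
theorem CC.val_one {X : Type u} [Group X] : CC.val (1 : CC X) = 1 := rfl
theorem CC.val_inj {X : Type u} [Group X] {a b : CC X} (h : CC.val a = CC.val b) : a = b :=
  Subtype.ext h
theorem CC.central {X : Type u} [Group X] (a : CC X) (y : X) : CC.val a * y = y * CC.val a :=
  (Subgroup.mem_center_iff.mp a.2 y).symm

variable {X : Type u} [Group X] [Finite X] {p q r : ℕ} [hp : Fact p.Prime] [hq : Fact q.Prime]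
variable {P : Subgroup X} {g : X}
variable {F : Type v} {Z : Type w} [Field F] [AddCommGroup Z] [NeZero (q ^ r)]

theorem exists_phi (hc : Ctx p q r P g) (D : Data F Z (q ^ r))
    (hspan : AddSubgroup.closure (Set.range fun xy : F × F => D.β xy.1 xy.2) = ⊤)
    (huniv : ∀ b : F →+ F →+ Additive (CC X), (∀ x, b x x = 0) →
      (∀ x y, b (D.ζ * x) (D.ζ * y) = b x y) → ∃ γ : Z →+ Additive (CC X),
        ∀ x y, γ (D.β x y) = b x y)
    (L : F → X) (hLP : ∀ x, L x ∈ P)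
    (hLadd : ∀ x y, (L (x + y))⁻¹ * (L x * L y) ∈ cent P g)
    (hLζ : ∀ x, (L (D.ζ * x))⁻¹ * (g * L x * g⁻¹) ∈ cent P g)
    (hL0 : ∀ x, L x ∈ cent P g → x = 0) :
    ∃ φ : Gp D →* X, Function.Surjective φ ∧ φ.ker ≤ center (Gp D) := by
  classical
  haveI := hc.normal
  have hq1 : 1 < q := hq.out.one_lt
  have hn1 : 1 < q ^ r := Nat.one_lt_pow (by have := hc.rpos; omega) hq1
  haveI : Fact (1 < q ^ r) := ⟨hn1⟩
  have hcen : ∀ {c : X}, c ∈ cent P g → ∀ y, c * y = y * c := fun h y => hc.cent_central h y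
  haveI hCn : (cent P g).Normal := by
    constructor
    intro n hn w
    have h3 := hcen hn w
    have h4 : w * n * w⁻¹ = n := by
      rw [← h3]
      group
    rw [h4]
    exact hn
  have hmkeq : ∀ u v : X, ((u : X ⧸ cent P g) = v) ↔ u⁻¹ * v ∈ cent P g := fun u v => QuotientGroup.eq
  have hLaddq : ∀ x y, ((L (x + y) : X) : X ⧸ cent P g) = (L x * L y : X) :=
    fun x y => (hmkeq _ _).mpr (hLadd x y)
  have hLζq : ∀ x, ((L (D.ζ * x) : X) : X ⧸ cent P g) = (g * L x * g⁻¹ : X) :=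
    fun x => (hmkeq _ _).mpr (hLζ x)
  -- the map `τ`
  let τ : X → X := fun u => u⁻¹ * (g * u * g⁻¹)
  have hτ : ∀ u, τ u = u⁻¹ * (g * u * g⁻¹) := fun u => rfl
  have hτwd : ∀ u v : X, (u : X ⧸ cent P g) = v → τ u = τ v := by
    intro u v huv
    have hcc := (hmkeq _ _).mp huv
    set c := u⁻¹ * v with hcdef
    have hv : v = u * c := by
      rw [hcdef]
      group
    rw [hv, hτ, hτ]
    have e1 : g * (u * c) * g⁻¹ = g * u * g⁻¹ * c := by
      have := hcen hcc g⁻¹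
      calc g * (u * c) * g⁻¹ = g * u * (c * g⁻¹) := by group
        _ = g * u * (g⁻¹ * c) := by rw [this]
        _ = _ := by group
    rw [e1]
    have e2 := hcen hcc (u⁻¹ * (g * u * g⁻¹))
    calc u⁻¹ * (g * u * g⁻¹) = c⁻¹ * (c * (u⁻¹ * (g * u * g⁻¹))) := by group
      _ = c⁻¹ * ((u⁻¹ * (g * u * g⁻¹)) * c) := by rw [e2]
      _ = (u * c)⁻¹ * (g * u * g⁻¹ * c) := by group
  have hτP : ∀ u ∈ P, τ u ∈ P := fun u hu => P.mul_mem (P.inv_mem hu) (hc.normal.conj_mem u hu g)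
  have hτconj : ∀ u, g * τ u * g⁻¹ = τ (g * u * g⁻¹) := by
    intro u
    rw [hτ, hτ]
    group
  -- the section `s`
  let s : F → X := fun x => τ (L (D.θ * x))
  have hsdef : ∀ x, s x = τ (L (D.θ * x)) := fun x => rfl
  have hsP : ∀ x, s x ∈ P := fun x => hτP _ (hLP _)
  have hsmk : ∀ x, ((s x : X) : X ⧸ cent P g) = L x := by
    intro x
    rw [hsdef, hτ, QuotientGroup.mk_mul, QuotientGroup.mk_inv, ← hLζq]
    have e1 : D.ζ * (D.θ * x) = D.θ * x + x := by
      have := D.θ_mul x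
      linear_combination this
    rw [e1, hLaddq, QuotientGroup.mk_mul, inv_mul_cancel_left]
  have hconj : ∀ x, g * s x * g⁻¹ = s (D.ζ * x) := by
    intro x
    rw [hsdef, hsdef, hτconj]
    apply hτwd
    rw [mul_left_comm, ← hLζq]
  -- commutators
  have hcP : ∀ {u v : X}, u ∈ P → v ∈ P → ⁅u, v⁆ ∈ cent P g := fun hu hv => hc.comm_mem_cent hu hv
  have hcmul : ∀ {u u' v : X}, u ∈ P → u' ∈ P → v ∈ P → ⁅u * u', v⁆ = ⁅u, v⁆ * ⁅u', v⁆ := by
    intro u u' v hu hu' hv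
    rw [commutatorElement_mul_left_eq_conj_mul, ← hcen (hcP hu' hv) u, mul_inv_cancel_right,
      hcen (hcP hu' hv)]
  have hcmul' : ∀ {u v v' : X}, u ∈ P → v ∈ P → v' ∈ P → ⁅u, v * v'⁆ = ⁅u, v⁆ * ⁅u, v'⁆ := by
    intro u v v' hu hv hv'
    rw [commutatorElement_mul_right_eq_mul_conj]
    calc ⁅u, v⁆ * v * ⁅u, v'⁆ * v⁻¹ = ⁅u, v⁆ * (v * ⁅u, v'⁆) * v⁻¹ := by group
      _ = ⁅u, v⁆ * (⁅u, v'⁆ * v) * v⁻¹ := by rw [hcen (hcP hu hv') v]
      _ = ⁅u, v⁆ * ⁅u, v'⁆ := by group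
  have hcone : ∀ {c v : X}, c ∈ cent P g → ⁅c, v⁆ = 1 := by
    intro c v hcc
    rw [commutatorElement_eq_one_iff_mul_comm]
    exact hcen hcc v
  have hcone' : ∀ {c v : X}, c ∈ cent P g → ⁅v, c⁆ = 1 := by
    intro c v hcc
    rw [commutatorElement_eq_one_iff_mul_comm]
    exact (hcen hcc v).symm
  have hcwd : ∀ {u u' v v' : X}, u ∈ P → v ∈ P → (u : X ⧸ cent P g) = u' → (v : X ⧸ cent P g) = v' →
      ⁅u, v⁆ = ⁅u', v'⁆ := by
    intro u u' v v' hu hv huu hvv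
    have h3 := (hmkeq _ _).mp huu
    have h4 := (hmkeq _ _).mp hvv
    have e1 : u' = u * (u⁻¹ * u') := by group
    have e2 : v' = v * (v⁻¹ * v') := by group
    have h3' := (mem_cent.mp h3).1
    have h4' := (mem_cent.mp h4).1
    rw [e1, e2, hcmul hu h3' (P.mul_mem hv h4'), hcmul' hu hv h4', hcone h3, hcone' h4, mul_one,
      mul_one]
  -- the commutator form
  let B₀ : F → F → CC X := fun a c => ⟨⁅L a, L c⁆, by
    rw [Subgroup.mem_center_iff]
    intro y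
    exact (hcen (hcP (hLP a) (hLP c)) y).symm⟩
  have hB₀ : ∀ a c, CC.val (B₀ a c) = ⁅L a, L c⁆ := fun a c => rfl
  have hLq : ∀ a c, ((L (a + c) : X) : X ⧸ cent P g) = (L a * L c : X) := hLaddq
  let B : F →+ F →+ Additive (CC X) :=
    AddMonoidHom.mk' (fun a => AddMonoidHom.mk' (fun c => Additive.ofMul (B₀ a c)) (by
      intro c c'
      rw [← ofMul_mul]
      congr 1
      apply CC.val_inj
      rw [CC.val_mul, hB₀, hB₀, hB₀, ← hcmul' (hLP a) (hLP c) (hLP c')]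
      exact hcwd (hLP a) (hLP _) rfl (hLq c c'))) (by
      intro a a'
      ext c
      change Additive.ofMul (B₀ (a + a') c) = Additive.ofMul (B₀ a c) + Additive.ofMul (B₀ a' c)
      rw [← ofMul_mul]
      congr 1
      apply CC.val_inj
      rw [CC.val_mul, hB₀, hB₀, hB₀, ← hcmul (hLP a) (hLP a') (hLP c)]
      exact hcwd (hLP _) (hLP c) (hLq a a') rfl)
  have hB : ∀ a c, CC.val (Additive.toMul (B a c)) = ⁅L a, L c⁆ := fun a c => rfl
  obtain ⟨γ, hγ⟩ := huniv B (by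
      intro x
      apply Additive.toMul.injective
      apply CC.val_inj
      rw [hB, commutatorElement_self]
      rfl) (by
      intro x y
      apply Additive.toMul.injective
      apply CC.val_inj
      rw [hB, hB]
      have h3 : ⁅L (D.ζ * x), L (D.ζ * y)⁆ = ⁅g * L x * g⁻¹, g * L y * g⁻¹⁆ :=
        hcwd (hLP _) (hLP _) (hLζq x) (hLζq y)
      rw [h3, ← conjugate_commutatorElement, ← hcen (hcP (hLP x) (hLP y)) g]
      group)
  -- the central map
  let c₀ : Z →+ Additive X := AddMonoidHom.mk' (fun z => Additive.ofMul (CC.val (Additive.toMul (γ z))))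
    (by
      intro z z'
      rw [map_add, ← ofMul_mul, toMul_add, CC.val_mul])
  have hc₀ : ∀ z, Additive.toMul (c₀ z) = CC.val (Additive.toMul (γ z)) := fun z => rfl
  have hc₀central : ∀ (z : Z) (y : X), (c₀ z).toMul * y = y * (c₀ z).toMul := by
    intro z y
    rw [hc₀]
    exact CC.central _ y
  have hc₀β : ∀ a c, (c₀ (D.β a c)).toMul = ⁅L a, L c⁆ := by
    intro a c
    rw [hc₀, hγ, hB]
  have hc₀P : ∀ z, (c₀ z).toMul ∈ cent P g := by
    let W : AddSubgroup Z :=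
      { carrier := {z | (c₀ z).toMul ∈ cent P g}
        zero_mem' := by
          change (c₀ 0).toMul ∈ cent P g
          rw [map_zero]
          exact Subgroup.one_mem _
        add_mem' := by
          intro z z' hz hz'
          change (c₀ (z + z')).toMul ∈ cent P g
          rw [map_add, toMul_add]
          exact Subgroup.mul_mem _ hz hz'
        neg_mem' := by
          intro z hz
          change (c₀ (-z)).toMul ∈ cent P g
          rw [map_neg, toMul_neg]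
          exact Subgroup.inv_mem _ hz }
    have hW : W = ⊤ := by
      rw [eq_top_iff, ← hspan, AddSubgroup.closure_le]
      rintro _ ⟨⟨a, c⟩, rfl⟩
      change (c₀ (D.β a c)).toMul ∈ cent P g
      rw [hc₀β]
      exact hcP (hLP a) (hLP c)
    intro z
    have : z ∈ W := by
      rw [hW]
      trivial
    exact this
  have hs : ∀ x y : F, s x * s y = s (x + y) * (c₀ (D.A x y)).toMul := by
    intro x y
    set a := D.θ * x with ha
    set b := D.θ * y with hb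
    have hAval : (c₀ (D.A x y)).toMul = ⁅L a, L b⁆ * ⁅g * L a * g⁻¹, L b⁆⁻¹ := by
      rw [D.A_apply, ← ha, ← hb, map_sub, toMul_sub, hc₀β, hc₀β, div_eq_mul_inv]
      have e0 : ⁅L (D.ζ * a), L b⁆ = ⁅g * L a * g⁻¹, L b⁆ := hcwd (hLP _) (hLP _) (hLζq a) rfl
      rw [e0]
    have hva : ⁅L b, (L a)⁻¹⁆ = ⁅L a, L b⁆ := by
      have e1 := hcmul' (hLP b) (P.inv_mem (hLP a)) (hLP a)
      rw [inv_mul_cancel, commutatorElement_one_right] at e1
      have e2 := eq_inv_of_mul_eq_one_left e1.symm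
      rw [e2, commutatorElement_inv]
    have hconjP : g * L a * g⁻¹ ∈ P := hc.normal.conj_mem _ (hLP a) g
    have h3 : ⁅L b, (L a)⁻¹ * (g * L a * g⁻¹)⁆ = ⁅L b, (L a)⁻¹⁆ * ⁅L b, g * L a * g⁻¹⁆ :=
      hcmul' (hLP b) (P.inv_mem (hLP a)) hconjP
    have hz : ∀ y', ⁅L b, (L a)⁻¹ * (g * L a * g⁻¹)⁆ * y' = y' * ⁅L b, (L a)⁻¹ * (g * L a * g⁻¹)⁆ :=
      hcen (hcP (hLP b) (P.mul_mem (P.inv_mem (hLP a)) hconjP))
    have key := tau_mul (g := g) (u := L a) (v := L b) hva (commutatorElement_inv _ _).symm h3 hz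
    have e3 : s (x + y) = τ (L a * L b) := by
      rw [hsdef]
      apply hτwd
      rw [mul_add, ← ha, ← hb]
      exact hLq a b
    rw [e3, hAval, hsdef, hsdef, ← ha, ← hb]
    exact key
  have hgn : g ^ q ^ r = 1 := by
    rw [← hc.order]
    exact pow_orderOf_eq_one g
  obtain ⟨φ, hφ⟩ := exists_lift (D := D) s c₀ g hc₀central hs hconj hgn
  have hφ1 : s 0 = 1 := by
    have h3 := hφ 1
    rw [map_one] at h3
    simp only [f₁_one, f₂_one, f₃_one, map_zero, ZMod.val_zero, pow_zero, mul_one] at h3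
    rw [toMul_zero, mul_one] at h3
    exact h3.symm
  have hφg : φ (mk D 0 0 1) = g := by
    rw [hφ]
    simp only [f₁_mk, f₂_mk, f₃_mk, map_zero, ZMod.val_one, pow_one]
    rw [hφ1, toMul_zero, one_mul, one_mul]
  have hφs : ∀ x, φ (mk D x 0 0) = s x := by
    intro x
    rw [hφ]
    simp only [f₁_mk, f₂_mk, f₃_mk, map_zero, ZMod.val_zero, pow_zero, mul_one]
    rw [toMul_zero, mul_one]
  have hsC : ∀ x, s x ∈ cent P g → x = 0 := by
    intro x hx
    apply hL0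
    have h3 := hsmk x
    have h4 : ((s x : X) : X ⧸ cent P g) = 1 := (QuotientGroup.eq_one_iff _).mpr hx
    rw [h4] at h3
    exact (QuotientGroup.eq_one_iff _).mp h3.symm
  refine ⟨φ, ?_, ?_⟩
  · -- surjective
    rw [← MonoidHom.range_eq_top]
    have hgI : g ∈ φ.range := ⟨_, hφg⟩
    let R : Subgroup X := φ.range ⊓ P
    have hRP : R ≤ P := inf_le_right
    have hRinv : ∀ x ∈ R, g * x * g⁻¹ ∈ R := by
      rintro x ⟨hx1, hx2⟩
      exact ⟨Subgroup.mul_mem _ (Subgroup.mul_mem _ hgI hx1) (Subgroup.inv_mem _ hgI),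
        hc.normal.conj_mem x hx2 g⟩
    have hRe : R = P := by
      by_contra hne
      have h1R : s 1 ∈ R := ⟨⟨_, hφs 1⟩, hsP 1⟩
      have h3 := hc.conj_eq_of_invariant R hRP hRinv hne h1R
      have h4 : s 1 ∈ cent P g := by
        rw [mem_cent]
        refine ⟨hsP 1, ?_⟩
        calc g * s 1 = g * s 1 * g⁻¹ * g := by group
          _ = s 1 * g := by rw [h3]
      exact one_ne_zero (hsC 1 h4)
    rw [eq_top_iff, ← hc.sup, sup_le_iff]
    constructor
    · rw [← hRe]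
      exact inf_le_left
    · rw [Subgroup.zpowers_le]
      exact hgI
  · -- kernel
    intro a ha
    have h3 : s (f₁ a) * (c₀ (f₂ a)).toMul * g ^ (f₃ a).val = 1 := by
      rw [← hφ]
      exact ha
    have hyP : s (f₁ a) * (c₀ (f₂ a)).toMul ∈ P :=
      P.mul_mem (hsP _) (mem_cent.mp (hc₀P _)).1
    have h4 : g ^ (f₃ a).val ∈ P := by
      have h5 : g ^ (f₃ a).val = (s (f₁ a) * (c₀ (f₂ a)).toMul)⁻¹ := eq_inv_of_mul_eq_one_right h3
      rw [h5]
      exact P.inv_mem hyP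
    have h6 := hc.pow_mem_eq_one h4
    have h7 : f₃ a = 0 := by
      have h8 : q ^ r ∣ (f₃ a).val := (dvd_of_eq hc.order.symm).trans (orderOf_dvd_of_pow_eq_one h6)
      have h9 : (f₃ a).val < q ^ r := ZMod.val_lt _
      have h10 : (f₃ a).val = 0 := Nat.eq_zero_of_dvd_of_lt h8 h9
      exact (ZMod.val_eq_zero _).mp h10
    rw [h6, mul_one] at h3
    have h11 : s (f₁ a) = ((c₀ (f₂ a)).toMul)⁻¹ := eq_inv_of_mul_eq_one_left h3
    have h12 : f₁ a = 0 := by
      apply hsC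
      rw [h11]
      exact Subgroup.inv_mem _ (hc₀P _)
    have h13 : a = mk D 0 (f₂ a) 0 := by
      apply ext' <;> simp [h7, h12]
    rw [h13]
    exact Cfsg.Agent.Lib.Schmidt.Props.mk_second_mem_center _

end Cfsg.Agent.Lib.Schmidt.Lift
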