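import Mathlib
import Cfsg.Agent.Lib.Schmidt.Group
import Cfsg.Agent.Lib.Schmidt.Field

/-!
# The choice of the field and of the universal form
-/

set_option autoImplicit false

namespace Cfsg.Agent.Lib.Schmidt.Model

open Cfsg.Agent.Lib.Schmidt.Group Cfsg.Agent.Lib.Schmidt.Field

universe w

theorem exists_model (p q r a a₀ : ℕ) [hp : Fact p.Prime] [hq : Fact q.Prime] (hpq : p ≠ q)
    (hr : 1 ≤ r) (ha : a = orderOf (p : ZMod q))
    (ha₀ : a₀ = if a % 2 = 1 then a else 3 * a / 2) :
    ∃ (F : Type) (_ : Field F) (_ : Finite F) (_ : Algebra (ZMod p) F) (Z : Type)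
      (_ : AddCommGroup Z) (_ : Finite Z) (b : ℕ) (D : Data F Z (q ^ r)),
      Nat.card F = p ^ a ∧ Nat.card Z = p ^ b ∧ a + b = a₀ ∧ D.ζ ^ q = 1 ∧
      AddSubgroup.closure (Set.range fun xy : F × F => D.β xy.1 xy.2) = ⊤ ∧
      ∀ (A : Type w) [AddCommGroup A] (f : F →+ F →+ A), (∀ x, f x x = 0) →
        (∀ x y, f (D.ζ * x) (D.ζ * y) = f x y) → ∃ γ : Z →+ A, ∀ x y, γ (D.β x y) = f x y := by
  classical
  have hapos : a ≠ 0 := by
    rw [ha]
    have h1 : (p : ZMod q) ^ (q - 1) = 1 := by
      apply ZMod.pow_card_sub_one_eq_one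
      intro h0
      rw [ZMod.natCast_eq_zero_iff] at h0
      exact hpq ((Nat.prime_dvd_prime_iff_eq hq.out hp.out).mp h0).symm
    have h2 : 0 < q - 1 := Nat.sub_pos_of_lt hq.out.one_lt
    exact (orderOf_pos_iff.mpr (isOfFinOrder_iff_pow_eq_one.mpr ⟨q - 1, h2, h1⟩)).ne'
  let F := GaloisField p a
  have hF : Nat.card F = p ^ a := GaloisField.card p a hapos
  haveI : Finite F := Nat.finite_of_card_ne_zero (by rw [hF]; exact pow_ne_zero _ hp.out.ne_zero)
  obtain ⟨ζ, h1, h2⟩ := exists_zeta (F := F) ha hF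
  have hζn : ζ ^ q ^ r = 1 := by
    obtain ⟨c, hc⟩ : q ∣ q ^ r := dvd_pow_self q (by omega)
    rw [hc, pow_mul, h1, one_pow]
  by_cases hodd : a % 2 = 1
  · -- odd degree
    rw [if_pos hodd] at ha₀
    let D : Data F PUnit (q ^ r) :=
      { ζ := ζ
        hζ := hζn
        hne := h2
        β := 0
        β_self := fun _ => rfl
        β_inv := fun _ _ => rfl }
    refine ⟨F, inferInstance, inferInstance, inferInstance, PUnit, inferInstance, inferInstance, 0, D,
      hF, by simp, by omega, h1, Subsingleton.elim _ _, ?_⟩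
    intro A _ f hf0 hf
    refine ⟨0, ?_⟩
    intro x y
    exact (form_vanish_odd ha hF hpq hodd h1 h2 f hf0 hf x y).symm
  · -- even degree
    rw [if_neg hodd] at ha₀
    obtain ⟨c, hc⟩ : 2 ∣ a := by omega
    have hc0 : 0 < c := by
      rcases Nat.eq_zero_or_pos c with h | h
      · subst h
        exact absurd hc hapos
      · exact h
    have ha₀' : a₀ = a + c := by
      rw [ha₀, hc]
      omega
    obtain ⟨σ, K, hσσ, hσζ, hKcard, hKmem, hKtr⟩ := even_data ha hF hc hc0 h1 h2
    let β : F →+ F →+ (F ⧸ K) :=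
      AddMonoidHom.mk' (fun x => (QuotientAddGroup.mk' K).comp (AddMonoidHom.mulLeft (σ x))) (by
        intro x y
        ext z
        simp [add_mul])
    have hβ : ∀ x y, β x y = ((σ x * y : F) : F ⧸ K) := fun x y => rfl
    let D : Data F (F ⧸ K) (q ^ r) :=
      { ζ := ζ
        hζ := hζn
        hne := h2
        β := β
        β_self := by
          intro x
          rw [hβ, QuotientAddGroup.eq_zero_iff, hKmem, map_mul, hσσ, mul_comm]
        β_inv := by
          intro x y
          rw [hβ, hβ, map_mul]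
          congr 1
          linear_combination (σ x * y) * hσζ }
    have hZcard : Nat.card (F ⧸ K) = p ^ c := by
      have h3 := AddSubgroup.card_mul_index K
      have hpow : p ^ a = p ^ c * p ^ c := by
        conv_lhs => rw [hc, two_mul, pow_add]
      rw [hKcard, AddSubgroup.index, hF, hpow] at h3
      exact Nat.eq_of_mul_eq_mul_left (pow_pos hp.out.pos c) h3
    haveI : Finite (F ⧸ K) := inferInstance
    refine ⟨F, inferInstance, inferInstance, inferInstance, F ⧸ K, inferInstance, inferInstance, c, D,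
      hF, hZcard, ha₀'.symm, h1, ?_, ?_⟩
    · rw [eq_top_iff]
      intro z _
      obtain ⟨y, rfl⟩ := QuotientAddGroup.mk_surjective z
      apply AddSubgroup.subset_closure
      refine ⟨(1, y), ?_⟩
      change β 1 y = _
      rw [hβ, map_one, one_mul]
    · intro A _ f hf0 hf
      obtain ⟨γ, hγ⟩ := even_universal ha hF h1 h2 σ K hσζ hKtr f hf0 hf
      exact ⟨γ, fun x y => hγ x y⟩

end Cfsg.Agent.Lib.Schmidt.Model
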