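import Mathlib
import Cfsg.Agent.Lib.Schmidt.Field

/-!
# Faithful irreducible modules for a cyclic group of prime order

A simple `ZMod p`-module `V` with a fixed-point-free automorphism `α` with `α ^ q = 1` is the
field `F` on which `α ^ k` acts as a chosen `q`-th root of unity `ζ`.
-/

set_option autoImplicit false

namespace Cfsg.Agent.Lib.Schmidt.Module

open Polynomial Cfsg.Agent.Lib.Schmidt.Field

variable {p q a : ℕ} [hp : Fact p.Prime] [hq : Fact q.Prime]
variable {F : Type*} [Field F] [Finite F] [Algebra (ZMod p) F]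
variable {V : Type*} [AddCommGroup V] [Module (ZMod p) V] [Finite V] [Nontrivial V]

theorem exists_hom (ha : a = orderOf (p : ZMod q)) (hF : Nat.card F = p ^ a) {ζ : F}
    (h1 : ζ ^ q = 1) (h2 : ζ ≠ 1) (α : Module.End (ZMod p) V) (hα : α ^ q = 1)
    (hfix : ∀ v, α v = v → v = 0)
    (hsimple : ∀ S : AddSubgroup V, (∀ v ∈ S, α v ∈ S) → S = ⊥ ∨ S = ⊤) :
    ∃ (k : ℕ) (ψ : F →+ V), Nat.Coprime k q ∧ Function.Bijective ψ ∧
      ∀ x, ψ (ζ * x) = (α ^ k) (ψ x) := by
  classical
  haveI : NeZero q := ⟨hq.out.ne_zero⟩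
  have hint : IsIntegral (ZMod p) α := IsIntegral.of_finite _ _
  have hfpos : 0 < (minpoly (ZMod p) α).natDegree := minpoly.natDegree_pos hint
  have hfdvd : minpoly (ZMod p) α ∣ X ^ q - 1 := minpoly.dvd _ _ (by simp [hα])
  have hcomm : ∀ (h : (ZMod p)[X]) (v : V), α (aeval α h v) = aeval α h (α v) := by
    intro h v
    have e1 : α * aeval α h = aeval α h * α := by
      have e2 : aeval α (X * h) = aeval α (h * X) := by rw [mul_comm]
      simpa only [map_mul, aeval_X] using e2
    exact congrArg (fun T : Module.End (ZMod p) V => T v) e1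
  -- a root in `F`
  have hζord : orderOf ζ = q := orderOf_eq_prime h1 h2
  have hprim : IsPrimitiveRoot ζ q := hζord ▸ IsPrimitiveRoot.orderOf ζ
  have hsplit : (X ^ q - C 1 : F[X]).Splits := X_pow_sub_one_splits hprim
  have hmapdvd : (minpoly (ZMod p) α).map (algebraMap (ZMod p) F) ∣ X ^ q - C 1 := by
    have := Polynomial.map_dvd (algebraMap (ZMod p) F) hfdvd
    simpa using this
  have hne0 : (X ^ q - C 1 : F[X]) ≠ 0 := X_pow_sub_C_ne_zero hq.out.pos 1
  have hs2 := Splits.of_dvd hsplit hne0 hmapdvd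
  have hdeg : ((minpoly (ZMod p) α).map (algebraMap (ZMod p) F)).degree ≠ 0 := by
    rw [degree_map]
    intro h0
    have h00 : (minpoly (ZMod p) α).natDegree = 0 := natDegree_eq_zero_iff_degree_le_zero.mpr h0.le
    omega
  obtain ⟨ρ, hρ⟩ := hs2.exists_eval_eq_zero hdeg
  have hρf : aeval ρ (minpoly (ZMod p) α) = 0 := by
    rw [aeval_def, ← eval_map]
    exact hρ
  have hρq : ρ ^ q = 1 := by
    obtain ⟨g, hg⟩ := hfdvd
    have := congrArg (aeval ρ) hg
    rw [map_mul, hρf, zero_mul] at this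
    simpa [sub_eq_zero] using this
  have hρ1 : ρ ≠ 1 := by
    rintro rfl
    have h3 : algebraMap (ZMod p) F (eval 1 (minpoly (ZMod p) α)) = 0 := by
      rw [← aeval_algebraMap_apply_eq_algebraMap_eval, map_one]
      exact hρf
    have h4 : eval 1 (minpoly (ZMod p) α) = 0 :=
      (map_eq_zero_iff _ (algebraMap (ZMod p) F).injective).mp h3
    obtain ⟨f₁, hf₁⟩ := dvd_iff_isRoot.mpr h4
    have h5 : aeval α f₁ = 0 := by
      apply LinearMap.ext
      intro v
      apply hfix
      have h6 : aeval α (minpoly (ZMod p) α) v = 0 := by rw [minpoly.aeval]; rfl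
      rw [hf₁, map_mul] at h6
      simp only [map_sub, aeval_X, aeval_C, map_one, Module.End.mul_apply, LinearMap.sub_apply,
        Module.End.one_apply, LinearMap.zero_apply] at h6
      exact sub_eq_zero.mp h6
    have h7 := minpoly.dvd (ZMod p) α h5
    have hf₁0 : f₁ ≠ 0 := by
      rintro rfl
      rw [mul_zero] at hf₁
      exact (minpoly.ne_zero hint) hf₁
    have h8 := natDegree_le_of_dvd h7 hf₁0
    rw [hf₁, natDegree_mul (X_sub_C_ne_zero 1) hf₁0, natDegree_X_sub_C] at h8
    omega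
  -- the minimal polynomial of `ρ`
  have hρint : IsIntegral (ZMod p) ρ := IsIntegral.of_finite _ _
  obtain ⟨f₂, hf₂⟩ := minpoly.dvd (ZMod p) ρ hρf
  have hmpos : 0 < (minpoly (ZMod p) ρ).natDegree := minpoly.natDegree_pos hρint
  have hf₂0 : f₂ ≠ 0 := by
    rintro rfl
    rw [mul_zero] at hf₂
    exact (minpoly.ne_zero hint) hf₂
  have hf₂α : aeval α f₂ ≠ 0 := by
    intro h0
    have h7 := minpoly.dvd (ZMod p) α h0
    have h8 := natDegree_le_of_dvd h7 hf₂0
    rw [hf₂, natDegree_mul (minpoly.ne_zero hρint) hf₂0] at h8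
    omega
  have hmα : aeval α (minpoly (ZMod p) ρ) = 0 := by
    have hrange := hsimple (LinearMap.range (aeval α f₂)).toAddSubgroup (by
      rintro _ ⟨w, rfl⟩
      exact ⟨α w, (hcomm f₂ w).symm⟩)
    rcases hrange with h | h
    · exfalso
      apply hf₂α
      apply LinearMap.ext
      intro w
      have : aeval α f₂ w ∈ (LinearMap.range (aeval α f₂)).toAddSubgroup := ⟨w, rfl⟩
      rw [h, AddSubgroup.mem_bot] at this
      exact this
    · apply LinearMap.ext
      intro v
      have hv : v ∈ (LinearMap.range (aeval α f₂)).toAddSubgroup := by rw [h]; trivial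
      obtain ⟨w, rfl⟩ := hv
      have h6 : aeval α (minpoly (ZMod p) α) w = 0 := by rw [minpoly.aeval]; rfl
      rw [hf₂, map_mul] at h6
      exact h6
  have hker : ∀ h : (ZMod p)[X], aeval ρ h = 0 → aeval α h = 0 := by
    intro h hh
    obtain ⟨g, rfl⟩ := minpoly.dvd (ZMod p) ρ hh
    rw [map_mul, hmα, zero_mul]
  have hsurj := aeval_surjective ha hF hρq hρ1
  choose s hs using hsurj
  obtain ⟨v₀, hv₀⟩ := exists_ne (0 : V)
  have hwd : ∀ h : (ZMod p)[X], aeval α (s (aeval ρ h)) = aeval α h := by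
    intro h
    rw [← sub_eq_zero, ← map_sub]
    apply hker
    rw [map_sub, hs, sub_self]
  let ψ : F →+ V := AddMonoidHom.mk' (fun x => aeval α (s x) v₀) (by
    intro x y
    have e : x + y = aeval ρ (s x + s y) := by rw [map_add, hs, hs]
    rw [e, hwd, map_add, LinearMap.add_apply])
  have hψ : ∀ h : (ZMod p)[X], ψ (aeval ρ h) = aeval α h v₀ := by
    intro h
    change aeval α (s (aeval ρ h)) v₀ = _
    rw [hwd]
  have hψx : ∀ x, ψ x = aeval α (s x) v₀ := fun x => rfl
  have hψρ : ∀ x, ψ (ρ * x) = α (ψ x) := by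
    intro x
    have e : ρ * x = aeval ρ (X * s x) := by rw [map_mul, aeval_X, hs]
    rw [e, hψ, map_mul, aeval_X, hψx]
    rfl
  have hψ1 : ψ 1 = v₀ := by
    have e : (1 : F) = aeval ρ (1 : (ZMod p)[X]) := (map_one (aeval ρ)).symm
    rw [e, hψ, map_one]
    rfl
  have hinj : Function.Injective ψ := by
    rw [injective_iff_map_eq_zero]
    intro x hx
    by_contra hx0
    apply hv₀
    have e : aeval ρ (s x⁻¹ * s x) = aeval ρ (1 : (ZMod p)[X]) := by
      rw [map_mul, hs, hs, inv_mul_cancel₀ hx0, map_one]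
    have e2 : aeval α (s x⁻¹ * s x) = 1 := by
      have := hker (s x⁻¹ * s x - 1) (by rw [map_sub, e, sub_self])
      rw [map_sub, map_one, sub_eq_zero] at this
      exact this
    have e3 := congrArg (fun T : Module.End (ZMod p) V => T v₀) e2
    simp only [map_mul, Module.End.mul_apply, Module.End.one_apply] at e3
    rw [← e3, ← hψx, hx, map_zero]
  have hsur : Function.Surjective ψ := by
    have hr := hsimple ψ.range (by
      rintro _ ⟨x, rfl⟩
      exact ⟨ρ * x, hψρ x⟩)
    rcases hr with h | h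
    · exfalso
      have : ψ 1 ∈ ψ.range := ⟨1, rfl⟩
      rw [h, AddSubgroup.mem_bot, hψ1] at this
      exact hv₀ this
    · intro v
      have : v ∈ ψ.range := by rw [h]; trivial
      exact this
  have hρord : orderOf ρ = q := orderOf_eq_prime hρq hρ1
  have hρprim : IsPrimitiveRoot ρ q := hρord ▸ IsPrimitiveRoot.orderOf ρ
  obtain ⟨k, -, hk⟩ := hρprim.eq_pow_of_pow_eq_one h1
  refine ⟨k, ψ, ?_, ⟨hinj, hsur⟩, ?_⟩
  · rw [Nat.coprime_comm, Nat.Prime.coprime_iff_not_dvd hq.out]
    rintro ⟨c, rfl⟩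
    apply h2
    rw [← hk, pow_mul, hρq, one_pow]
  · intro x
    rw [← hk]
    clear hk
    induction k generalizing x with
    | zero => simp
    | succ k ih =>
      rw [pow_succ, mul_assoc, ih, hψρ, pow_succ]
      rfl

end Cfsg.Agent.Lib.Schmidt.Module
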