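import Mathlib
import Cfsg.Agent.Lib.Schmidt.Struct
import Cfsg.Agent.Lib.Schmidt.Module

/-!
# The quotient `P / C` as a field, and the section `L`
-/

set_option autoImplicit false

namespace Cfsg.Agent.Lib.Schmidt.Section

open Subgroup Cfsg.Agent.Lib.Schmidt.Struct
open scoped commutatorElement

universe u v

/-- Quotient by a normal subgroup above commutators and `p`-th powers, as a vector space. -/
theorem exists_quot {G : Type u} [Group G] (p : ℕ) [hp : Fact p.Prime] (N : Subgroup G) [N.Normal]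
    (hcomm0 : ∀ x y : G, ⁅x, y⁆ ∈ N) (hpow0 : ∀ x : G, x ^ p ∈ N) :
    ∃ (V : Type u) (_ : AddCommGroup V) (_ : Module (ZMod p) V) (π : G →* Multiplicative V),
      Function.Surjective π ∧ π.ker = N := by
  have hcomm : ∀ a b : G ⧸ N, a * b = b * a := by
    intro a b
    obtain ⟨x, rfl⟩ := QuotientGroup.mk_surjective a
    obtain ⟨y, rfl⟩ := QuotientGroup.mk_surjective b
    have h := hcomm0 y⁻¹ x⁻¹
    rw [← QuotientGroup.mk_mul, ← QuotientGroup.mk_mul, QuotientGroup.eq]
    simpa [commutatorElement_def, mul_assoc] using h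
  letI : CommGroup (G ⧸ N) := { (inferInstance : Group (G ⧸ N)) with mul_comm := hcomm }
  have hpow : ∀ x : Additive (G ⧸ N), p • x = 0 := by
    intro x
    obtain ⟨y, hy⟩ := QuotientGroup.mk_surjective (Additive.toMul x)
    have h1 : ((y ^ p : G) : G ⧸ N) = 1 := (QuotientGroup.eq_one_iff _).2 (hpow0 y)
    have h2 : x = Additive.ofMul (y : G ⧸ N) := by rw [hy]; rfl
    rw [h2, ← ofMul_pow]
    rw [QuotientGroup.mk_pow] at h1
    rw [h1]
    rfl
  letI : Module (ZMod p) (Additive (G ⧸ N)) := AddCommGroup.zmodModule hpow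
  refine ⟨Additive (G ⧸ N), inferInstance, inferInstance,
    MonoidHom.mk' (fun g => Multiplicative.ofAdd (Additive.ofMul (g : G ⧸ N)))
      (fun _ _ => rfl), ?_, ?_⟩
  · intro v
    obtain ⟨y, hy⟩ := QuotientGroup.mk_surjective (Additive.toMul (Multiplicative.toAdd v))
    refine ⟨y, ?_⟩
    change Multiplicative.ofAdd (Additive.ofMul (y : G ⧸ N)) = v
    rw [hy]
    rfl
  · ext x
    rw [MonoidHom.mem_ker]
    change Multiplicative.ofAdd (Additive.ofMul (x : G ⧸ N)) = 1 ↔ _
    exact (QuotientGroup.eq_one_iff x)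

variable {X : Type u} [Group X] [Finite X] {p q r a : ℕ} [hp : Fact p.Prime] [hq : Fact q.Prime]
variable {P : Subgroup X} {g : X}
variable {F : Type*} [Field F] [Finite F] [Algebra (ZMod p) F]

/-- The section. -/
theorem exists_L (hc : Ctx p q r P g) (ha : a = orderOf (p : ZMod q)) (hF : Nat.card F = p ^ a)
    {ζ : F} (h1 : ζ ^ q = 1) (h2 : ζ ≠ 1) :
    ∃ (k : ℕ) (L : F → X), Nat.Coprime k q ∧ (∀ x, L x ∈ P) ∧
      (∀ x y, (L (x + y))⁻¹ * (L x * L y) ∈ cent P g) ∧
      (∀ x, (L (ζ * x))⁻¹ * (g ^ k * L x * (g ^ k)⁻¹) ∈ cent P g) ∧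
      (∀ x, L x ∈ cent P g → x = 0) := by
  classical
  haveI := hc.normal
  let N : Subgroup P := (cent P g).subgroupOf P
  have hN : ∀ u : P, u ∈ N ↔ (u : X) ∈ cent P g := fun u => Subgroup.mem_subgroupOf
  haveI : N.Normal := by
    constructor
    intro n hn w
    rw [hN] at hn ⊢
    have h3 := hc.cent_central hn (w : X)
    have h4 : ((w * n * w⁻¹ : P) : X) = (n : X) := by
      push_cast
      rw [← h3]
      group
    rw [h4]
    exact hn
  obtain ⟨V, _, _, π, hπ, hker⟩ := exists_quot p N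
    (fun x y => (hN _).mpr (hc.comm_mem_cent x.2 y.2))
    (fun x => (hN _).mpr (hc.pow_mem_cent x.2))
  have hπ1 : ∀ u : P, π u = 1 ↔ (u : X) ∈ cent P g := by
    intro u
    rw [← MonoidHom.mem_ker, hker, hN]
  have hπeq : ∀ u v : P, π u = π v ↔ ((u⁻¹ * v : P) : X) ∈ cent P g := by
    intro u v
    rw [← hπ1, map_mul, map_inv, inv_mul_eq_one]
  haveI : Finite V := Finite.of_surjective (fun u : P => Multiplicative.toAdd (π u)) (by
    intro v
    obtain ⟨u, hu⟩ := hπ (Multiplicative.ofAdd v)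
    exact ⟨u, by simp [hu]⟩)
  haveI : Nontrivial V := by
    by_contra hnt
    rw [not_nontrivial_iff_subsingleton] at hnt
    apply hc.cent_ne
    apply le_antisymm inf_le_left
    intro u hu
    have h3 : π ⟨u, hu⟩ = 1 := by
      apply Multiplicative.toAdd.injective
      exact Subsingleton.elim _ _
    exact (hπ1 _).mp h3
  let cj : P →* P := (MulAut.conjNormal g : P ≃* P).toMonoidHom
  have hcj : ∀ u : P, ((cj u : P) : X) = g * u * g⁻¹ := fun u => MulAut.conjNormal_apply g u
  have hcjwd : ∀ u v : P, π u = π v → π (cj u) = π (cj v) := by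
    intro u v huv
    rw [hπeq] at huv ⊢
    have h3 : ((cj u)⁻¹ * cj v : P) = cj (u⁻¹ * v) := by
      rw [map_mul, map_inv]
    rw [h3, hcj]
    obtain ⟨h4, h5⟩ := mem_cent.mp huv
    have h6 : g * ((u⁻¹ * v : P) : X) * g⁻¹ = ((u⁻¹ * v : P) : X) := by
      rw [h5]
      group
    rw [h6]
    exact huv
  let s : V → P := fun v => Function.surjInv hπ (Multiplicative.ofAdd v)
  have hs : ∀ v, π (s v) = Multiplicative.ofAdd v := fun v => Function.surjInv_eq hπ _
  let α₀ : V →+ V := AddMonoidHom.mk' (fun v => Multiplicative.toAdd (π (cj (s v)))) (by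
    intro v w
    have h3 : π (s (v + w)) = π (s v * s w) := by
      rw [map_mul, hs, hs, hs, ofAdd_add]
    rw [hcjwd _ _ h3, map_mul, map_mul, toAdd_mul])
  let α : Module.End (ZMod p) V := α₀.toZModLinearMap p
  have hαp : ∀ u : P, α (Multiplicative.toAdd (π u)) = Multiplicative.toAdd (π (cj u)) := by
    intro u
    change Multiplicative.toAdd (π (cj (s (Multiplicative.toAdd (π u))))) = _
    rw [hcjwd (s (Multiplicative.toAdd (π u))) u (by rw [hs]; rfl)]
  have hsurjv : ∀ v : V, ∃ u : P, Multiplicative.toAdd (π u) = v := by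
    intro v
    refine ⟨s v, ?_⟩
    rw [hs]
    rfl
  have hαm : ∀ (m : ℕ) (u : P), (α ^ m) (Multiplicative.toAdd (π u)) =
      Multiplicative.toAdd (π (MulAut.conjNormal (g ^ m) u)) := by
    intro m
    induction m with
    | zero =>
      intro u
      simp
    | succ m ih =>
      intro u
      rw [pow_succ', Module.End.mul_apply, ih, hαp, pow_succ', map_mul]
      rfl
  have hαq : α ^ q = 1 := by
    apply LinearMap.ext
    intro v
    obtain ⟨u, rfl⟩ := hsurjv v
    rw [hαm]
    have h3 : MulAut.conjNormal (g ^ q) u = u := by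
      apply Subtype.ext
      rw [MulAut.conjNormal_apply]
      exact hc.gq_comm u.2
    rw [h3]
    rfl
  have hfix : ∀ v, α v = v → v = 0 := by
    intro v hv
    obtain ⟨u, rfl⟩ := hsurjv v
    rw [hαp] at hv
    have h3 : π (cj u) = π u := Multiplicative.toAdd.injective hv
    have h4 : π (cj u * u⁻¹) = 1 := by
      rw [map_mul, map_inv, h3, mul_inv_cancel]
    rw [hπ1] at h4
    have h5 : ((cj u * u⁻¹ : P) : X) = g * u * g⁻¹ * (u : X)⁻¹ := by
      push_cast
      rw [hcj]
    rw [h5] at h4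
    have h6 := hc.mem_cent_of_conj u.2 h4
    have h7 : π u = 1 := (hπ1 u).mpr h6
    rw [h7]
    rfl
  have hsimple : ∀ S : AddSubgroup V, (∀ v ∈ S, α v ∈ S) → S = ⊥ ∨ S = ⊤ := by
    intro S hS
    let R : Subgroup X :=
      { carrier := {x | ∃ h : x ∈ P, Multiplicative.toAdd (π ⟨x, h⟩) ∈ S}
        one_mem' := ⟨P.one_mem, by
          have : π ⟨1, P.one_mem⟩ = 1 := map_one π
          rw [this]
          exact S.zero_mem⟩
        mul_mem' := by
          rintro x y ⟨hx, hx'⟩ ⟨hy, hy'⟩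
          refine ⟨P.mul_mem hx hy, ?_⟩
          have : π ⟨x * y, P.mul_mem hx hy⟩ = π ⟨x, hx⟩ * π ⟨y, hy⟩ := by
            rw [← map_mul]
            rfl
          rw [this, toAdd_mul]
          exact S.add_mem hx' hy'
        inv_mem' := by
          rintro x ⟨hx, hx'⟩
          refine ⟨P.inv_mem hx, ?_⟩
          have : π ⟨x⁻¹, P.inv_mem hx⟩ = (π ⟨x, hx⟩)⁻¹ := by
            rw [← map_inv]
            rfl
          rw [this, toAdd_inv]
          exact S.neg_mem hx' }
    have hRmem : ∀ u : P, (u : X) ∈ R ↔ Multiplicative.toAdd (π u) ∈ S := by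
      intro u
      constructor
      · rintro ⟨_, h⟩
        exact h
      · intro h
        exact ⟨u.2, h⟩
    have hRP : R ≤ P := fun x hx => hx.1
    have hRinv : ∀ x ∈ R, g * x * g⁻¹ ∈ R := by
      rintro x ⟨hx, hx'⟩
      have h3 := hS _ hx'
      rw [hαp] at h3
      have h4 := (hRmem (cj ⟨x, hx⟩)).mpr h3
      rwa [hcj] at h4
    by_cases hRe : R = P
    · right
      rw [eq_top_iff]
      intro v _
      obtain ⟨u, rfl⟩ := hsurjv v
      have h3 : (u : X) ∈ R := by
        rw [hRe]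
        exact u.2
      exact (hRmem u).mp h3
    · left
      rw [eq_bot_iff]
      intro v hv
      obtain ⟨u, rfl⟩ := hsurjv v
      have h3 : (u : X) ∈ R := (hRmem u).mpr hv
      have h4 := hc.conj_eq_of_invariant R hRP hRinv hRe h3
      have h5 : (u : X) ∈ cent P g := by
        rw [mem_cent]
        refine ⟨u.2, ?_⟩
        calc g * (u : X) = g * u * g⁻¹ * g := by group
          _ = u * g := by rw [h4]
      have h6 : π u = 1 := (hπ1 u).mpr h5
      rw [AddSubgroup.mem_bot, h6]
      rfl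
  obtain ⟨k, ψ, hcop, hbij, hψ⟩ := Cfsg.Agent.Lib.Schmidt.Module.exists_hom ha hF h1 h2 α hαq hfix hsimple
  refine ⟨k, fun x => (s (ψ x) : X), hcop, fun x => (s (ψ x)).2, ?_, ?_, ?_⟩
  · intro x y
    have h3 : π (s (ψ (x + y))) = π (s (ψ x) * s (ψ y)) := by
      rw [map_mul, hs, hs, hs, map_add, ofAdd_add]
    have h4 := (hπeq _ _).mp h3
    exact h4
  · intro x
    have h3 : π (s (ψ (ζ * x))) = π (MulAut.conjNormal (g ^ k) (s (ψ x))) := by
      rw [hs, hψ]
      have h4 : ψ x = Multiplicative.toAdd (π (s (ψ x))) := by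
        rw [hs]
        rfl
      conv_lhs => rw [h4, hαm]
      rfl
    have h4 := (hπeq _ _).mp h3
    have h5 : (((s (ψ (ζ * x)))⁻¹ * MulAut.conjNormal (g ^ k) (s (ψ x)) : P) : X) =
        ((s (ψ (ζ * x)) : X))⁻¹ * (g ^ k * (s (ψ x) : X) * (g ^ k)⁻¹) := by
      push_cast
      rw [MulAut.conjNormal_apply]
    rw [h5] at h4
    exact h4
  · intro x hx
    have h3 : π (s (ψ x)) = 1 := (hπ1 _).mpr hx
    rw [hs] at h3
    have h4 : ψ x = 0 := Multiplicative.ofAdd.injective h3
    exact hbij.1 (h4.trans (map_zero ψ).symm)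

end Cfsg.Agent.Lib.Schmidt.Section
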